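import Cfsg.Agent.Lib.Dickson.CentralizerCard
import Cfsg.Agent.Lib.Dickson.Involutions
import Cfsg.Agent.Lib.Dickson.DihedralMax

/-!
# The class sizes of `PSL(2, q)`
-/

set_option autoImplicit false
set_option linter.unusedSectionVars false

open Subgroup

namespace Cfsg.Lib.ClassSizePSL

universe u

/-- The size of a conjugacy class. -/
noncomputable abbrev cls {G : Type u} [Group G] (g : G) : ℕ := (centralizer ({g} : Set G)).index

theorem cls_mul_card {G : Type u} [Group G] [Finite G] (g : G) :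
    Nat.card (centralizer ({g} : Set G)) * cls g = Nat.card G := card_mul_index _

theorem cls_eq_one_iff {G : Type u} [Group G] {g : G} : cls g = 1 ↔ g ∈ center G := by
  rw [index_eq_one, centralizer_eq_top_iff_subset, Set.singleton_subset_iff, SetLike.mem_coe]

/-- The numerical data for `q` odd: `q - ε = a` and `(q + ε) / 2 = b`. -/
structure OddData (q a b : ℕ) : Prop where
  a4 : a % 4 = 0
  a8 : 8 ≤ a
  b_odd : b % 2 = 1
  b3 : 3 ≤ b
  sum : a = q + 1 ∧ 2 * b + 1 = q ∨ a + 1 = q ∧ 2 * b = q + 1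

theorem exists_oddData {q : ℕ} (h : q % 2 = 1) (h7 : 7 ≤ q) : ∃ a b, OddData q a b := by
  rcases (show q % 4 = 1 ∨ q % 4 = 3 by omega) with h4 | h4
  · exact ⟨q - 1, (q + 1) / 2, by omega, by omega, by omega, by omega, Or.inr ⟨by omega, by omega⟩⟩
  · exact ⟨q + 1, (q - 1) / 2, by omega, by omega, by omega, by omega, Or.inl ⟨rfl, by omega⟩⟩

namespace OddData

variable {q a b : ℕ} (h : OddData q a b)
include h

theorem q_odd : q % 2 = 1 := by
  rcases h.sum with ⟨e1, e2⟩ | ⟨e1, e2⟩ <;> omega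

theorem q7 : 7 ≤ q := by
  have := h.a8
  rcases h.sum with ⟨e1, e2⟩ | ⟨e1, e2⟩ <;> omega

theorem sq : q ^ 2 = 2 * (a * b) + 1 := by
  rcases h.sum with ⟨e1, e2⟩ | ⟨e1, e2⟩
  · rw [show 2 * (a * b) = a * (2 * b) by ring, e1]; subst e2; ring
  · rw [show 2 * (a * b) = a * (2 * b) by ring, e2]; subst e1; ring

theorem coprime_qa : q.Coprime a := by
  rcases h.sum with ⟨e1, -⟩ | ⟨e1, -⟩ <;> subst e1 <;> simp

theorem coprime_qb : q.Coprime b := by
  have h1 : q.Coprime (2 * b) := by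
    rcases h.sum with ⟨-, e2⟩ | ⟨-, e2⟩
    · subst e2; simp
    · rw [e2]; simp
  exact h1.coprime_dvd_right (dvd_mul_left b 2)

theorem coprime_ab : a.Coprime b := by
  refine Nat.coprime_of_dvd' fun k _ ha hb => ?_
  have h2 : k ∣ 2 := by
    rcases h.sum with ⟨e1, e2⟩ | ⟨e1, e2⟩
    · have := Nat.dvd_sub ha (hb.mul_left 2)
      rwa [show a - 2 * b = 2 by omega] at this
    · have := Nat.dvd_sub (hb.mul_left 2) ha
      rwa [show 2 * b - a = 2 by omega] at this
  rcases (Nat.dvd_prime Nat.prime_two).1 h2 with rfl | rfl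
  · rfl
  · have := h.b_odd; omega

end OddData

variable {F : Type u} [Field F] [Fintype F]

local notation "PSL2" => Matrix.ProjectiveSpecialLinearGroup (Fin 2) F

theorem card_psl_odd {a b : ℕ} (h : OddData (Fintype.card F) a b) :
    Nat.card PSL2 = Fintype.card F * (a * b) := by
  have h1 := Cfsg.Lib.Linear.Two.card_PSL_two (F := F)
  have h2 := h.q_odd
  rw [Nat.gcd_eq_left (show 2 ∣ Fintype.card F - 1 by omega), h.sq, Nat.add_sub_cancel] at h1
  refine Nat.eq_of_mul_eq_mul_left two_pos (h1.trans ?_)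
  ring

theorem card_psl_even (h2 : 2 ∣ Fintype.card F) :
    Nat.card PSL2 = Fintype.card F * ((Fintype.card F - 1) * (Fintype.card F + 1)) := by
  have h1 := Cfsg.Lib.Linear.Two.card_PSL_two (F := F)
  have h0 : 0 < Fintype.card F := Fintype.card_pos
  rw [Nat.Coprime.gcd_eq_one (Nat.coprime_two_left.2 (Nat.odd_iff.2 (by omega))), one_mul] at h1
  rw [h1, mul_comm (Fintype.card F - 1), ← Nat.sq_sub_sq, one_pow]

theorem exists_unipotent (h4 : 4 ≤ Fintype.card F) :
    ∃ x : PSL2, x ≠ 1 ∧ Nat.card (centralizer ({x} : Set PSL2)) = Fintype.card F := by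
  obtain ⟨p, hpp, hp, n, hn0, hn⟩ := Cfsg.Lib.Dickson.exists_char (F := F)
  haveI := Fact.mk hpp
  obtain ⟨x, hx⟩ : p ∈ Set.range (orderOf : PSL2 → ℕ) := by
    rw [Cfsg.Lib.Spec.psl_two_spectrum p h4]
    exact Or.inl dvd_rfl
  refine ⟨x, fun e => ?_, Cfsg.Lib.Dickson.card_centralizer_unipotent p hx⟩
  rw [e, orderOf_one] at hx
  exact hpp.one_lt.ne hx

/-- A torus of the order `K`. -/
theorem exists_semisimple (h4 : 4 ≤ Fintype.card F) {K : ℕ} (hK3 : 3 ≤ K)
    (hK : K = (Fintype.card F - 1) / Nat.gcd 2 (Fintype.card F - 1) ∨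
      K = (Fintype.card F + 1) / Nat.gcd 2 (Fintype.card F - 1)) :
    ∃ x : PSL2, orderOf x = K ∧ Nat.card (centralizer ({x} : Set PSL2)) = K ∧
      (∀ p : ℕ, p.Prime → CharP F p → ¬ p ∣ orderOf x) := by
  obtain ⟨p, hpp, hp, n, hn0, hn⟩ := Cfsg.Lib.Dickson.exists_char (F := F)
  haveI := Fact.mk hpp
  set q := Fintype.card F with hq
  set d := Nat.gcd 2 (q - 1) with hd
  have hd0 : d = 1 ∨ d = 2 := (Nat.dvd_prime Nat.prime_two).1 (Nat.gcd_dvd_left _ _)
  have hd1 : d ∣ q - 1 := Nat.gcd_dvd_right _ _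
  have hd2 : d ∣ q + 1 := by rcases hd0 with e | e <;> rw [e] at hd1 ⊢ <;> omega
  obtain ⟨x, hx⟩ : K ∈ Set.range (orderOf : PSL2 → ℕ) := by
    rw [Cfsg.Lib.Spec.psl_two_spectrum p h4]
    rcases hK with e | e
    · exact Or.inr (Or.inl (dvd_of_eq e))
    · exact Or.inr (Or.inr (dvd_of_eq e))
  have hpK : ¬ p ∣ K := fun hdv => by
    have h1 : p ∣ q := hn ▸ dvd_pow_self p hn0.ne'
    rcases hK with e | e
    · have := Nat.dvd_sub h1 (hdv.trans (e ▸ Nat.div_dvd_of_dvd hd1))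
      rw [show q - (q - 1) = 1 by omega] at this
      exact hpp.not_dvd_one this
    · have := Nat.dvd_sub (hdv.trans (e ▸ Nat.div_dvd_of_dvd hd2)) h1
      rw [show q + 1 - q = 1 by omega] at this
      exact hpp.not_dvd_one this
  have hx2 : x ^ 2 ≠ 1 := fun e => by
    have := Nat.le_of_dvd two_pos (orderOf_dvd_of_pow_eq_one e)
    omega
  have hcop : ((q - 1) / d).Coprime ((q + 1) / d) := by
    refine Nat.coprime_of_dvd' fun k _ h1 h2 => ?_
    have h3 := Nat.dvd_sub h2 h1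
    rcases hd0 with e | e
    · rw [e] at h1 h2 h3; simp only [Nat.div_one] at h1 h2 h3
      rw [show q + 1 - (q - 1) = 2 by omega] at h3
      rcases (Nat.dvd_prime Nat.prime_two).1 h3 with rfl | rfl
      · rfl
      · exfalso
        have : d = 2 := (Nat.gcd_eq_left (show 2 ∣ q - 1 by omega))
        omega
    · rw [e] at h1 h2 h3
      rwa [show (q + 1) / 2 - (q - 1) / 2 = 1 by rw [e] at hd1; omega] at h3
  refine ⟨x, hx, ?_, fun p' hp' hc => by rw [CharP.eq F hc hp, hx]; exact hpK⟩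
  rcases Cfsg.Lib.Dickson.card_centralizer_semisimple h4 p hx2 (hx.symm ▸ hpK) with ⟨hc, ho⟩ | ⟨hc, ho⟩ <;>
    rw [hx, ← hd] at ho <;> rw [hc, ← hd] <;> rcases hK with e | e
  · exfalso
    have := Nat.eq_one_of_dvd_coprimes hcop (dvd_of_eq e) ho
    omega
  · exact e.symm
  · exact e.symm
  · exfalso
    have := Nat.eq_one_of_dvd_coprimes hcop ho (dvd_of_eq e)
    omega

theorem halves_odd {a b : ℕ} (h : OddData (Fintype.card F) a b) :
    (a / 2 = (Fintype.card F - 1) / Nat.gcd 2 (Fintype.card F - 1) ∧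
      b = (Fintype.card F + 1) / Nat.gcd 2 (Fintype.card F - 1)) ∨
    (b = (Fintype.card F - 1) / Nat.gcd 2 (Fintype.card F - 1) ∧
      a / 2 = (Fintype.card F + 1) / Nat.gcd 2 (Fintype.card F - 1)) := by
  have h2 := h.q_odd
  rw [Nat.gcd_eq_left (show 2 ∣ Fintype.card F - 1 by omega)]
  rcases h.sum with ⟨e1, e2⟩ | ⟨e1, e2⟩
  · exact Or.inr ⟨by omega, by omega⟩
  · exact Or.inl ⟨by omega, by omega⟩

theorem exists_torus_b {a b : ℕ} (h : OddData (Fintype.card F) a b) :
    ∃ x : PSL2, orderOf x = b ∧ Nat.card (centralizer ({x} : Set PSL2)) = b := by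
  obtain ⟨x, h1, h2, -⟩ := exists_semisimple (F := F) (by have := h.q7; omega) (K := b) h.b3 (by
    rcases halves_odd h with ⟨-, e⟩ | ⟨e, -⟩ <;> simp [← e])
  exact ⟨x, h1, h2⟩

/-- A dihedral subgroup of order `a`. -/
theorem exists_dihedral {a b : ℕ} (h : OddData (Fintype.card F) a b) :
    ∃ y t : PSL2, orderOf y = a / 2 ∧ Nat.card (centralizer ({y} : Set PSL2)) = a / 2 ∧
      t * t = 1 ∧ t * y * t⁻¹ = y⁻¹ ∧ t ∉ zpowers y := by
  obtain ⟨p, hpp, hp, -⟩ := Cfsg.Lib.Dickson.exists_char (F := F)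
  haveI := Fact.mk hpp
  have h8 := h.a8
  obtain ⟨y, h1, h2, h3⟩ := exists_semisimple (F := F) (by have := h.q7; omega) (K := a / 2) (by omega) (by
    rcases halves_odd h with ⟨e, -⟩ | ⟨-, e⟩ <;> simp [← e])
  obtain ⟨g, rfl⟩ := QuotientGroup.mk_surjective y
  obtain ⟨t, ht, hty⟩ := Cfsg.Lib.Dickson.exists_inverting p g (fun e => by
    have hd := orderOf_dvd_of_pow_eq_one e
    rcases (Nat.dvd_prime hpp).1 hd with e' | e'
    · omega
    · exact h3 p hpp hp (dvd_of_eq e'.symm))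
  refine ⟨_, t, h1, h2, ht, hty, fun hm => ?_⟩
  obtain ⟨j, hj⟩ := mem_zpowers_iff.1 hm
  rw [← hj, Commute.eq (Commute.zpow_self _ j), mul_inv_cancel_right] at hty
  have hsq : (QuotientGroup.mk g : PSL2) ^ 2 = 1 := by rw [sq]; nth_rw 2 [hty]; rw [mul_inv_cancel]
  have := Nat.le_of_dvd two_pos (orderOf_dvd_of_pow_eq_one hsq)
  omega

theorem card_centralizer_of_dvd_char (p : ℕ) [Fact p.Prime] [CharP F p] {x : PSL2} (hx1 : x ≠ 1)
    (hd : p ∣ orderOf x) : Nat.card (centralizer ({x} : Set PSL2)) = Fintype.card F := by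
  set u := x ^ (orderOf x / p) with hu
  have hpp : p.Prime := Fact.out
  have huo : orderOf u = p := orderOf_pow_orderOf_div (orderOf_pos x).ne' hd
  obtain ⟨P, hP⟩ := (IsPGroup.of_card (p := p) (n := 1) (by rw [Nat.card_zpowers, huo, pow_one]) :
    IsPGroup p (zpowers u)).exists_le_sylow
  have hu1 : u ≠ 1 := fun e => by rw [e, orderOf_one] at huo; exact hpp.one_lt.ne huo
  have hxP : x ∈ (P : Subgroup PSL2) := by
    rw [← Cfsg.Lib.Dickson.centralizer_eq_sylow p P (hP (mem_zpowers u)) hu1, mem_centralizer_singleton_iff, hu]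
    exact (Commute.self_pow x _).eq
  rw [Cfsg.Lib.Dickson.centralizer_eq_sylow p P hxP hx1, Cfsg.Lib.Dickson.card_sylow_psl p P]

/-- The orders of the centralisers, `q` odd. -/
theorem cen_odd {a b : ℕ} (h : OddData (Fintype.card F) a b) {x : PSL2} (hx1 : x ≠ 1) :
    Nat.card (centralizer ({x} : Set PSL2)) = Fintype.card F ∨
      Nat.card (centralizer ({x} : Set PSL2)) = b ∨
      Nat.card (centralizer ({x} : Set PSL2)) = a / 2 ∨
      (x * x = 1 ∧ Nat.card (centralizer ({x} : Set PSL2)) = a) := by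
  obtain ⟨p, hpp, hp, -⟩ := Cfsg.Lib.Dickson.exists_char (F := F)
  haveI := Fact.mk hpp
  by_cases hd : p ∣ orderOf x
  · exact Or.inl (card_centralizer_of_dvd_char p hx1 hd)
  by_cases h2 : x ^ 2 = 1
  · refine Or.inr (Or.inr (Or.inr ⟨by rw [← sq]; exact h2, ?_⟩))
    obtain ⟨hA, hB⟩ := Cfsg.Lib.Dickson.card_centralizer_involution h.q_odd h.q7 h2 hx1
    have h4 := h.a4
    have hb := h.b_odd
    rcases h.sum with ⟨e1, e2⟩ | ⟨e1, e2⟩
    · rw [hB (by omega)]; omega
    · rw [hA (by omega)]; omega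
  rcases halves_odd h with ⟨ea, eb⟩ | ⟨eb, ea⟩ <;>
    rcases Cfsg.Lib.Dickson.card_centralizer_semisimple (by have := h.q7; omega) p h2 hd with ⟨hc, -⟩ | ⟨hc, -⟩
  · exact Or.inr (Or.inl (hc.trans eb.symm))
  · exact Or.inr (Or.inr (Or.inl (hc.trans ea.symm)))
  · exact Or.inr (Or.inr (Or.inl (hc.trans ea.symm)))
  · exact Or.inr (Or.inl (hc.trans eb.symm))

theorem cls_of_card {G : Type u} [Group G] [Finite G] {g : G} {c i : ℕ}
    (hc : Nat.card (centralizer ({g} : Set G)) = c) (hG : Nat.card G = c * i) : cls g = i := by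
  have h := cls_mul_card g
  rw [hc, hG] at h
  exact Nat.eq_of_mul_eq_mul_left (hc ▸ Nat.card_pos) h

/-- The class sizes, `q` odd. -/
theorem range_cls_odd {a b : ℕ} (h : OddData (Fintype.card F) a b) :
    Set.range (fun g : PSL2 => cls g) =
      {1, a * b, Fintype.card F * a, 2 * (Fintype.card F * b), Fintype.card F * b} := by
  have hG := card_psl_odd (F := F) h
  have h8 := h.a8
  have h4 := h.a4
  have hq7 := h.q7
  set q := Fintype.card F with hq
  have ha2 : q * (a * b) = a / 2 * (2 * (q * b)) := by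
    nth_rw 1 [show a = a / 2 * 2 by omega]
    ring
  ext i
  simp only [Set.mem_range, Set.mem_insert_iff, Set.mem_singleton_iff]
  constructor
  · rintro ⟨x, rfl⟩
    by_cases hx1 : x = 1
    · exact Or.inl (cls_eq_one_iff.2 (hx1 ▸ Subgroup.one_mem _))
    rcases cen_odd h hx1 with hc | hc | hc | ⟨-, hc⟩
    · exact Or.inr (Or.inl (cls_of_card hc hG))
    · exact Or.inr (Or.inr (Or.inl (cls_of_card hc (hG.trans (by ring)))))
    · exact Or.inr (Or.inr (Or.inr (Or.inl (cls_of_card hc (hG.trans ha2)))))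
    · exact Or.inr (Or.inr (Or.inr (Or.inr (cls_of_card hc (hG.trans (by ring))))))
  · rintro (rfl | rfl | rfl | rfl | rfl)
    · exact ⟨1, cls_eq_one_iff.2 (Subgroup.one_mem _)⟩
    · obtain ⟨x, -, hc⟩ := exists_unipotent (F := F) (by omega)
      exact ⟨x, cls_of_card hc hG⟩
    · obtain ⟨x, -, hc⟩ := exists_torus_b (F := F) h
      exact ⟨x, cls_of_card hc (hG.trans (by ring))⟩
    · obtain ⟨y, -, -, hc, -⟩ := exists_dihedral (F := F) h
      exact ⟨y, cls_of_card hc (hG.trans ha2)⟩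
    · obtain ⟨y, t, ho, -, ht, hty, htn⟩ := exists_dihedral (F := F) h
      have ht1 : t ≠ 1 := fun e => htn (e ▸ Subgroup.one_mem _)
      obtain ⟨hA, hB⟩ := Cfsg.Lib.Dickson.card_centralizer_involution h.q_odd hq7
        (x := t) (by rw [sq]; exact ht) ht1
      have hb := h.b_odd
      have hc : Nat.card (centralizer ({t} : Set PSL2)) = a := by
        rcases h.sum with ⟨e1, e2⟩ | ⟨e1, e2⟩
        · rw [hB (by omega)]; omega
        · rw [hA (by omega)]; omega
      exact ⟨t, cls_of_card hc (hG.trans (by ring))⟩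

/-- The orders of the centralisers, `q` even. -/
theorem cen_even (h2 : 2 ∣ Fintype.card F) (h4 : 4 ≤ Fintype.card F) {x : PSL2} (hx1 : x ≠ 1) :
    Nat.card (centralizer ({x} : Set PSL2)) = Fintype.card F ∨
      Nat.card (centralizer ({x} : Set PSL2)) = Fintype.card F - 1 ∨
      Nat.card (centralizer ({x} : Set PSL2)) = Fintype.card F + 1 := by
  obtain ⟨p, hpp, hp, n, hn0, hn⟩ := Cfsg.Lib.Dickson.exists_char (F := F)
  haveI := Fact.mk hpp
  by_cases hd : p ∣ orderOf x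
  · exact Or.inl (card_centralizer_of_dvd_char p hx1 hd)
  have hp2 : p = 2 := ((Nat.prime_dvd_prime_iff_eq Nat.prime_two hpp).1
    (Nat.prime_two.dvd_of_dvd_pow (hn ▸ h2))).symm
  have hsq : x ^ 2 ≠ 1 := fun e => by
    rcases (Nat.dvd_prime Nat.prime_two).1 (orderOf_dvd_of_pow_eq_one e) with e' | e'
    · exact hx1 (orderOf_eq_one_iff.1 e')
    · exact hd (by rw [e', hp2])
  have hd1 : Nat.gcd 2 (Fintype.card F - 1) = 1 :=
    Nat.Coprime.gcd_eq_one (Nat.coprime_two_left.2 (Nat.odd_iff.2 (by omega)))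
  rcases Cfsg.Lib.Dickson.card_centralizer_semisimple h4 p hsq hd with ⟨hc, -⟩ | ⟨hc, -⟩ <;>
    rw [hd1, Nat.div_one] at hc
  · exact Or.inr (Or.inr hc)
  · exact Or.inr (Or.inl hc)

theorem exists_torus_even (h2 : 2 ∣ Fintype.card F) (h4 : 4 ≤ Fintype.card F) {K : ℕ}
    (hK : K = Fintype.card F - 1 ∨ K = Fintype.card F + 1) :
    ∃ x : PSL2, orderOf x = K ∧ Nat.card (centralizer ({x} : Set PSL2)) = K := by
  have hd1 : Nat.gcd 2 (Fintype.card F - 1) = 1 :=
    Nat.Coprime.gcd_eq_one (Nat.coprime_two_left.2 (Nat.odd_iff.2 (by omega)))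
  obtain ⟨x, h1, h3, -⟩ := exists_semisimple (F := F) h4 (K := K) (by omega) (by simpa [hd1] using hK)
  exact ⟨x, h1, h3⟩

/-- The class sizes, `q` even. -/
theorem range_cls_even (h2 : 2 ∣ Fintype.card F) (h4 : 4 ≤ Fintype.card F) :
    Set.range (fun g : PSL2 => cls g) =
      {1, (Fintype.card F - 1) * (Fintype.card F + 1), Fintype.card F * (Fintype.card F - 1),
        Fintype.card F * (Fintype.card F + 1)} := by
  have hG := card_psl_even (F := F) h2
  set q := Fintype.card F with hq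
  ext i
  simp only [Set.mem_range, Set.mem_insert_iff, Set.mem_singleton_iff]
  constructor
  · rintro ⟨x, rfl⟩
    by_cases hx1 : x = 1
    · exact Or.inl (cls_eq_one_iff.2 (hx1 ▸ Subgroup.one_mem _))
    rcases cen_even h2 h4 hx1 with hc | hc | hc
    · exact Or.inr (Or.inl (cls_of_card hc hG))
    · exact Or.inr (Or.inr (Or.inr (cls_of_card hc (hG.trans (by ring)))))
    · exact Or.inr (Or.inr (Or.inl (cls_of_card hc (hG.trans (by ring)))))
  · rintro (rfl | rfl | rfl | rfl)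
    · exact ⟨1, cls_eq_one_iff.2 (Subgroup.one_mem _)⟩
    · obtain ⟨x, -, hc⟩ := exists_unipotent (F := F) h4
      exact ⟨x, cls_of_card hc hG⟩
    · obtain ⟨x, -, hc⟩ := exists_torus_even (F := F) h2 h4 (Or.inr rfl)
      exact ⟨x, cls_of_card hc (hG.trans (by ring))⟩
    · obtain ⟨x, -, hc⟩ := exists_torus_even (F := F) h2 h4 (Or.inl rfl)
      exact ⟨x, cls_of_card hc (hG.trans (by ring))⟩

end Cfsg.Lib.ClassSizePSL
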