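import Cfsg.Agent.Lib.ClassSizePSL.Pure
import Cfsg.Agent.Lib.Counting.FrobeniusSolutions

/-!
# Centres of Sylow subgroups and the count of `r`-elements
-/

set_option autoImplicit false
set_option linter.unusedSectionVars false
set_option linter.style.haveILetI false

open Subgroup

namespace Cfsg.Lib.ClassSizePSL

universe u

variable {H : Type u} [Group H] [Finite H] {r g i : ℕ} [hr : Fact r.Prime]

theorem IsR.mono {y : H} (hy : IsR r y) (n : ℕ) : IsR r (y ^ n) := by
  obtain ⟨a, ha⟩ := hy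
  exact ⟨a, by rw [← pow_mul, mul_comm, pow_mul, ha, one_pow]⟩

theorem IsR.conj {y : H} (hy : IsR r y) (h : H) : IsR r (h * y * h⁻¹) := by
  obtain ⟨a, ha⟩ := hy
  exact ⟨a, by rw [conj_pow, ha, mul_one, mul_inv_cancel]⟩

theorem isR_of_mem {R : Subgroup H} (hR : IsPGroup r R) {y : H} (hy : y ∈ R) : IsR r y := by
  obtain ⟨a, ha⟩ := hR ⟨y, hy⟩
  exact ⟨a, by simpa using congrArg Subtype.val ha⟩

/-- The centre of a Sylow subgroup, as a subgroup of the group. -/
def ZR (R : Sylow r H) : Subgroup H := (R : Subgroup H) ⊓ centralizer ((R : Subgroup H) : Set H)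

theorem le_cen_of_mem_ZR {R : Sylow r H} {y : H} (hy : y ∈ ZR R) :
    (R : Subgroup H) ≤ centralizer ({y} : Set H) := fun v hv =>
  mem_centralizer_singleton_iff.2 (mem_centralizer_iff.1 hy.2 v hv)

theorem exists_mem_ZR (R : Sylow r H) (hrH : r ∣ Nat.card H) : ∃ y ∈ ZR R, y ≠ 1 := by
  haveI : Nontrivial ↥(R : Subgroup H) := by
    rw [← Finite.one_lt_card_iff_nontrivial]
    exact lt_of_lt_of_le hr.out.one_lt (Nat.le_of_dvd Nat.card_pos (R.dvd_card_of_dvd_card hrH))
  haveI := R.isPGroup'.center_nontrivial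
  obtain ⟨⟨z, hz⟩, hz1⟩ := exists_ne (1 : center ↥(R : Subgroup H))
  refine ⟨(z : H), ⟨z.2, mem_centralizer_iff.2 fun v hv =>
    congrArg Subtype.val (Subgroup.mem_center_iff.1 hz ⟨v, hv⟩)⟩, fun e => hz1 (Subtype.ext (Subtype.ext e))⟩

theorem cen_le_normalizer (hG : Good H r g) {y : H} (hy1 : y ≠ 1) (hy : IsR r y) {R : Sylow r H}
    (hR : (R : Subgroup H) ≤ centralizer ({y} : Set H)) :
    centralizer ({y} : Set H) ≤ normalizer ((R : Subgroup H) : Set H) := by
  set C := centralizer ({y} : Set H) with hC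
  set M := normalizer ((R : Subgroup H) : Set H) ⊓ C with hM
  suffices hidx : M.relIndex C = 1 from (relIndex_eq_one.1 hidx).trans inf_le_left
  by_contra hne
  obtain ⟨s, hs, hd⟩ := Nat.exists_prime_and_dvd hne
  haveI := Fact.mk hs
  rw [relIndex] at hd
  by_cases hsr : s = r
  · subst hsr
    refine R.not_dvd_index (hd.trans ?_)
    have h1 : M.relIndex C ∣ (R : Subgroup H).relIndex C :=
      relIndex_dvd_of_le_left C (le_inf le_normalizer hR)
    exact h1.trans (Dvd.intro _ (relIndex_mul_index hR))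
  · obtain ⟨S⟩ : Nonempty (Sylow s ↥C) := inferInstance
    refine S.not_dvd_index (hd.trans (index_dvd_of_le fun v hv => mem_subgroupOf.2 ⟨?_, v.2⟩))
    have hv' : IsR s (v : H) := isR_of_mem (S.isPGroup'.map C.subtype) (mem_map_of_mem _ hv)
    refine centralizer_le_normalizer _ (mem_centralizer_iff.2 fun w hw => ?_)
    exact (hG.central y hy1 hy v v.2 (hv'.coprime fun e => hsr ((Nat.prime_dvd_prime_iff_eq hs hr.out).1 e))
      w (hR hw)).symm

theorem mem_sylow_of_cen (hG : Good H r g) {y : H} (hy1 : y ≠ 1) (hy : IsR r y) {R : Sylow r H}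
    (hR : (R : Subgroup H) ≤ centralizer ({y} : Set H)) {v : H} (hv : v ∈ centralizer ({y} : Set H))
    (hvr : IsR r v) : v ∈ (R : Subgroup H) := by
  obtain ⟨a, ha⟩ := hvr.orderOf
  have hvN := cen_le_normalizer hG hy1 hy hR hv
  have hP : IsPGroup r (zpowers v) := IsPGroup.of_card (by rw [Nat.card_zpowers, ha])
  have hsup : IsPGroup r ((zpowers v) ⊔ (R : Subgroup H) : Subgroup H) :=
    hP.to_sup_of_normal_right' R.isPGroup' (zpowers_le.2 hvN)
  exact (R.is_maximal' hsup le_sup_right) ▸ (le_sup_left : zpowers v ≤ _) (mem_zpowers v)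

theorem sylow_unique (hG : Good H r g) {y : H} (hy1 : y ≠ 1) (hy : IsR r y) {R R' : Sylow r H}
    (hR : (R : Subgroup H) ≤ centralizer ({y} : Set H)) (hR' : (R' : Subgroup H) ≤ centralizer ({y} : Set H)) :
    R' = R :=
  Sylow.ext (R'.is_maximal' R.isPGroup' fun v hv =>
    mem_sylow_of_cen hG hy1 hy hR (hR' hv) (isR_of_mem R'.isPGroup' hv)).symm

theorem exists_sylow_ZR (hG : Good H r g) (hH : Nat.card H = g * i) (hi : ¬ r ∣ i) {y : H} (hy1 : y ≠ 1)
    (hy : IsR r y) : ∃ R : Sylow r H, (R : Subgroup H) ≤ centralizer ({y} : Set H) ∧ y ∈ ZR R := by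
  set C := centralizer ({y} : Set H) with hC
  obtain ⟨S⟩ : Nonempty (Sylow r ↥C) := inferInstance
  have hidx : C.index = i := cls_of_card (hG.card_cen y hy1 hy) hH
  have hnd : ¬ r ∣ ((S : Subgroup _).map C.subtype).index := by
    rw [index_map_subtype, hr.out.dvd_mul, hidx]
    exact not_or.2 ⟨S.not_dvd_index, hi⟩
  set R := (S.isPGroup'.map C.subtype).toSylow hnd with hR
  have hRC : (R : Subgroup H) ≤ C := fun v hv =>
    map_subtype_le (S : Subgroup _) ((S.isPGroup'.map _).mem_toSylow hnd |>.1 hv)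
  refine ⟨R, hRC, mem_sylow_of_cen hG hy1 hy hRC (mem_centralizer_singleton_iff.2 rfl) hy,
    mem_centralizer_iff.2 fun v hv => mem_centralizer_singleton_iff.1 (hRC hv)⟩

theorem cen_eq_of_mem_ZR (hG : Good H r g) {R : Sylow r H} {y v : H} (hy : y ∈ ZR R) (hy1 : y ≠ 1)
    (hv : v ∈ ZR R) (hv1 : v ≠ 1) : centralizer ({v} : Set H) = centralizer ({y} : Set H) := by
  have hyr := isR_of_mem R.isPGroup' hy.1
  have hR := le_cen_of_mem_ZR hy
  refine (eq_of_le_of_card_ge (Cfsg.Lib.Struct.MaxCent.le_of_primary fun s z hs hz hk => ?_) ?_).symm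
  · obtain ⟨k, hk⟩ := hk
    rw [mem_centralizer_singleton_iff]
    by_cases hsr : s = r
    · exact mem_centralizer_iff.1 hv.2 z (mem_sylow_of_cen hG hy1 hyr hR hz (isR_of_orderOf (hsr ▸ hk)))
    · exact hG.central y hy1 hyr z hz
        ((isR_of_orderOf hk).coprime fun e => hsr ((Nat.prime_dvd_prime_iff_eq hs.out hr.out).1 e)) v (hR hv.1)
  · rw [hG.card_cen v hv1 (isR_of_mem R.isPGroup' hv.1), hG.card_cen y hy1 hyr]

theorem conj_mem_ZR {R : Sylow r H} {n : H} (hn : n ∈ normalizer ((R : Subgroup H) : Set H)) {y : H}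
    (hy : y ∈ ZR R) : n * y * n⁻¹ ∈ ZR R := by
  refine ⟨(mem_normalizer_iff.1 hn y).1 hy.1, mem_centralizer_iff.2 fun v hv => ?_⟩
  have hw : n⁻¹ * v * n ∈ (R : Subgroup H) := by
    have := (mem_normalizer_iff.1 (inv_mem hn) v).1 hv
    rwa [inv_inv] at this
  have h1 := mem_centralizer_iff.1 hy.2 _ hw
  calc v * (n * y * n⁻¹) = n * (n⁻¹ * v * n * y) * n⁻¹ := by group
    _ = n * y * n⁻¹ * v := by rw [h1]; group

/-- The orbit under the normaliser of a Sylow subgroup. -/
def orb (R : Sylow r H) (y : H) : Set H :=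
  {v | ∃ n ∈ normalizer ((R : Subgroup H) : Set H), n * y * n⁻¹ = v}

theorem self_mem_orb (R : Sylow r H) (y : H) : y ∈ orb R y := ⟨1, one_mem _, by simp⟩

theorem orb_eq_of_mem {R : Sylow r H} {y v : H} (hv : v ∈ orb R y) : orb R v = orb R y := by
  obtain ⟨n, hn, rfl⟩ := hv
  ext w
  constructor
  · rintro ⟨m, hm, rfl⟩; exact ⟨m * n, mul_mem hm hn, by group⟩
  · rintro ⟨m, hm, rfl⟩; exact ⟨m * n⁻¹, mul_mem hm (inv_mem hn), by group⟩

theorem orb_subset {R : Sylow r H} {y : H} (hy : y ∈ ZR R) (hy1 : y ≠ 1) :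
    orb R y ⊆ {v | v ∈ ZR R ∧ v ≠ 1} := by
  rintro _ ⟨n, hn, rfl⟩
  exact ⟨conj_mem_ZR hn hy, fun e => hy1 (conj_eq_one_iff.1 e)⟩

theorem ncard_orb (hG : Good H r g) {R : Sylow r H} {y : H} (hy : y ∈ ZR R) (hy1 : y ≠ 1) :
    (orb R y).ncard = (centralizer ({y} : Set H)).relIndex (normalizer ((R : Subgroup H) : Set H)) := by
  set N := normalizer ((R : Subgroup H) : Set H) with hN
  set C := centralizer ({y} : Set H) with hC
  rw [← Nat.card_coe_set_eq, relIndex, index]
  symm
  refine Nat.card_congr (Equiv.ofBijective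
    (Quotient.lift (fun n : ↥N => (⟨(n : H) * y * (n : H)⁻¹, n, n.2, rfl⟩ : ↥(orb R y))) ?_) ⟨?_, ?_⟩)
  · intro a b hab
    have h1 := mem_centralizer_singleton_iff.1
      (mem_subgroupOf.1 (QuotientGroup.leftRel_apply.1 hab))
    refine Subtype.ext ?_
    simp only [Subgroup.coe_mul, InvMemClass.coe_inv] at h1
    calc (a : H) * y * (a : H)⁻¹ = a * ((a : H)⁻¹ * b * y) * (b : H)⁻¹ := by rw [h1]; group
      _ = b * y * (b : H)⁻¹ := by group
  · intro a b
    refine Quotient.inductionOn₂ a b fun a b e => Quotient.sound ?_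
    have e' : (a : H) * y * (a : H)⁻¹ = b * y * (b : H)⁻¹ := congrArg Subtype.val e
    refine QuotientGroup.leftRel_apply.2 (mem_subgroupOf.2 (mem_centralizer_singleton_iff.2 ?_))
    simp only [Subgroup.coe_mul, InvMemClass.coe_inv]
    calc (a : H)⁻¹ * b * y = (a : H)⁻¹ * (b * y * (b : H)⁻¹) * b := by group
      _ = y * ((a : H)⁻¹ * b) := by rw [← e']; group
  · rintro ⟨_, n, hn, rfl⟩
    exact ⟨Quotient.mk'' ⟨n, hn⟩, rfl⟩

/-- The count of `r`-elements and Frobenius' theorem. -/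
theorem count (hG : Good H r g) (hH : Nat.card H = g * i) (hi : ¬ r ∣ i) (R : Sylow r H) {y : H}
    (hy : y ∈ ZR R) (hy1 : y ≠ 1) :
    centralizer ({y} : Set H) ≤ normalizer ((R : Subgroup H) : Set H) ∧
      1 < Nat.card (ZR R) ∧ Nat.card (ZR R) ∣ Nat.card (R : Subgroup H) ∧
      (centralizer ({y} : Set H)).relIndex (normalizer ((R : Subgroup H) : Set H)) ∣ Nat.card (ZR R) - 1 ∧
      Nat.card (R : Subgroup H) ∣ i * (Nat.card (ZR R) - 1) +
        (centralizer ({y} : Set H)).relIndex (normalizer ((R : Subgroup H) : Set H)) := by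
  classical
  haveI := Fintype.ofFinite H
  set N := normalizer ((R : Subgroup H) : Set H) with hN
  set C := centralizer ({y} : Set H) with hC
  set k := C.relIndex N with hk
  set z := Nat.card (ZR R) with hz
  have hyr := isR_of_mem R.isPGroup' hy.1
  have hCN : C ≤ N := cen_le_normalizer hG hy1 hyr (le_cen_of_mem_ZR hy)
  have hz1 : 1 < z := by
    rw [hz, Finite.one_lt_card_iff_nontrivial]
    exact ⟨⟨y, hy⟩, 1, fun e => hy1 (congrArg Subtype.val e)⟩
  have hS : ∀ Q : Sylow r H, Nat.card {v : H // v ∈ ZR Q ∧ v ≠ 1} = Nat.card (ZR Q) - 1 := by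
    intro Q
    rw [Nat.card_eq_fintype_card, Fintype.card_subtype, ← Finset.filter_filter, Finset.filter_ne',
      Finset.card_erase_of_mem (by simp [Subgroup.one_mem]), ← Fintype.card_subtype, ← Nat.card_eq_fintype_card]
  have hkz : k ∣ z - 1 := by
    rw [hz, ← hS R, Nat.card_eq_fintype_card, Fintype.card_subtype]
    set T := Finset.univ.filter fun v : H => v ∈ ZR R ∧ v ≠ 1 with hT
    rw [Finset.card_eq_sum_card_fiberwise (t := T.image (orb R)) fun v hv => Finset.mem_image_of_mem _ hv]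
    refine Finset.dvd_sum fun O hO => dvd_of_eq ?_
    obtain ⟨v, hv, rfl⟩ := Finset.mem_image.1 hO
    obtain ⟨-, hvZ, hv1⟩ := Finset.mem_filter.1 hv
    rw [hk, hC, ← cen_eq_of_mem_ZR hG hy hy1 hvZ hv1, ← ncard_orb hG hvZ hv1, Set.ncard_eq_toFinset_card']
    refine congrArg Finset.card (Finset.ext fun w => ?_)
    simp only [Set.mem_toFinset, Finset.mem_filter, hT, Finset.mem_univ, true_and]
    refine ⟨fun hw => ⟨orb_subset hvZ hv1 hw, orb_eq_of_mem hw⟩, ?_⟩
    rintro ⟨-, e⟩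
    rw [← e]; exact self_mem_orb R w
  refine ⟨hCN, hz1, card_dvd_of_le inf_le_left, hkz, ?_⟩
  -- Frobenius
  have hidx : C.index = i := cls_of_card (hG.card_cen y hy1 hyr) hH
  have hki : k * N.index = i := hidx ▸ relIndex_mul_index hCN
  have hpow : Cfsg.Lib.Counting.powCount H (Nat.card (R : Subgroup H)) =
      1 + Nat.card (Sylow r H) * (z - 1) := by
    obtain ⟨e, he⟩ := IsPGroup.iff_card.1 R.isPGroup'
    have hiff : ∀ v : H, v ^ Nat.card (R : Subgroup H) = 1 ↔ IsR r v := fun v =>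
      ⟨fun h => ⟨e, he ▸ h⟩, fun h => by
        obtain ⟨a, ha⟩ := h.orderOf
        refine orderOf_dvd_iff_pow_eq_one.1 ?_
        rw [R.card_eq_multiplicity, ha]
        exact pow_dvd_pow _ ((hr.out.pow_dvd_iff_le_factorization Nat.card_pos.ne').1
          (ha ▸ orderOf_dvd_natCard v))⟩
    have h1 : Nat.card {v : H // v ≠ 1 ∧ IsR r v} = Nat.card (Sylow r H) * (z - 1) := by
      have e1 : Nat.card (Σ Q : Sylow r H, {v : H // v ∈ ZR Q ∧ v ≠ 1}) =
          Nat.card {v : H // v ≠ 1 ∧ IsR r v} := by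
        refine Nat.card_congr (Equiv.ofBijective
          (fun p => ⟨p.2.1, p.2.2.2, isR_of_mem p.1.isPGroup' p.2.2.1.1⟩) ⟨?_, ?_⟩)
        · rintro ⟨Q, v, hv, hv1⟩ ⟨Q', v', hv', hv1'⟩ e
          obtain rfl : v = v' := congrArg Subtype.val e
          obtain rfl := sylow_unique hG hv1 (isR_of_mem Q.isPGroup' hv.1) (le_cen_of_mem_ZR hv) (le_cen_of_mem_ZR hv')
          rfl
        · rintro ⟨v, hv1, hvr⟩
          obtain ⟨Q, -, hQ⟩ := exists_sylow_ZR hG hH hi hv1 hvr
          exact ⟨⟨Q, v, hQ, hv1⟩, rfl⟩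
      rw [← e1, Nat.card_sigma]
      refine (Finset.sum_congr rfl fun Q _ => ?_).trans (by rw [Finset.sum_const, Finset.card_univ, smul_eq_mul,
        Nat.card_eq_fintype_card (α := Sylow r H)])
      obtain ⟨h, rfl⟩ := MulAction.exists_smul_eq H R Q
      rw [hz, ← hS R]
      refine Nat.card_congr ((MulAut.conj h).toEquiv.subtypeEquiv fun v => ?_).symm
      have hm : ∀ w : H, h * w * h⁻¹ ∈ ((h • R : Sylow r H) : Subgroup H) ↔ w ∈ (R : Subgroup H) := fun w => by
        rw [Sylow.coe_subgroup_smul]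
        constructor
        · rintro ⟨t, ht, e⟩
          simp only [MulDistribMulAction.toMonoidEnd_apply, MulDistribMulAction.toMonoidHom_apply,
            MulAut.smul_def, MulAut.conj_apply, mul_left_inj, mul_right_inj] at e
          exact e ▸ ht
        · exact fun hw => ⟨w, hw, by simp⟩
      simp only [ZR, mem_inf, mem_centralizer_iff, SetLike.mem_coe, MulEquiv.toEquiv_eq_coe, EquivLike.coe_coe,
        MulAut.conj_apply, hm, ne_eq, conj_eq_one_iff]
      refine and_congr_left fun _ => and_congr_right fun _ => ?_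
      constructor
      · intro hc w hw
        obtain ⟨w', rfl⟩ : ∃ w', h * w' * h⁻¹ = w := ⟨h⁻¹ * w * h, by group⟩
        calc h * w' * h⁻¹ * (h * v * h⁻¹) = h * (w' * v) * h⁻¹ := by group
          _ = h * v * h⁻¹ * (h * w' * h⁻¹) := by rw [hc w' ((hm w').1 hw)]; group
      · intro hc w hw
        have := hc (h * w * h⁻¹) ((hm w).2 hw)
        calc w * v = h⁻¹ * (h * w * h⁻¹ * (h * v * h⁻¹)) * h := by group
          _ = v * w := by rw [this]; group
    rw [← h1, Cfsg.Lib.Counting.powCount, Nat.card_congr (Equiv.subtypeEquivRight hiff), Nat.card_eq_fintype_card,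
      Fintype.card_subtype,
      Nat.card_eq_fintype_card, Fintype.card_subtype,
      ← Finset.card_erase_add_one (a := (1 : H)) (by simp only [Finset.mem_filter, Finset.mem_univ, true_and]; exact ⟨0, one_pow _⟩), add_comm]
    refine congrArg (1 + ·) (congrArg Finset.card (Finset.ext fun v => ?_))
    simp
  have hdvd := Cfsg.Lib.Counting.dvd_powCount (G := H) (n := Nat.card (R : Subgroup H)) (card_subgroup_dvd_card _)
  rw [hpow, show Nat.card (Sylow r H) = N.index from R.card_eq_index_normalizer] at hdvd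
  have := hdvd.trans (dvd_mul_left _ k)
  rw [show k * (1 + N.index * (z - 1)) = i * (z - 1) + k by rw [← hki]; ring] at this
  exact this

end Cfsg.Lib.ClassSizePSL
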