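import Cfsg.Agent.Lib.ClassSizePSL.OddMain
import Cfsg.Agent.Lib.Small.PSLTwoEvenRecog

/-!
# The class sizes of `PSL(2, q)`, `q` even, determine the central quotient
-/

set_option autoImplicit false
set_option linter.unusedSectionVars false
set_option linter.style.haveILetI false

open Subgroup

namespace Cfsg.Lib.ClassSizePSL

universe u v

/-- The numerical data for `q` even. -/
structure EvenData (q a b : ℕ) : Prop where
  q4 : 4 ≤ q
  q2 : 2 ∣ q
  sum : a + 1 = q ∧ b = q + 1 ∨ a = q + 1 ∧ b + 1 = q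

namespace EvenData

variable {q a b : ℕ} (h : EvenData q a b)
include h

theorem symm : EvenData q b a := ⟨h.q4, h.q2, h.sum.symm.imp And.symm And.symm⟩

theorem hsq : a * b + 1 = q ^ 2 := by
  rcases h.sum with ⟨e1, e2⟩ | ⟨e1, e2⟩
  · subst e1 e2; ring
  · subst e1; subst e2; ring

theorem a3 : 3 ≤ a := by
  have := h.q4
  rcases h.sum with ⟨e1, e2⟩ | ⟨e1, e2⟩ <;> omega

theorem b_odd : ¬ 2 ∣ b := by
  have := h.q2
  rcases h.sum with ⟨e1, e2⟩ | ⟨e1, e2⟩ <;> omega

theorem coprime_qa : q.Coprime a := by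
  rcases h.sum with ⟨e1, -⟩ | ⟨e1, -⟩ <;> subst e1 <;> simp

theorem coprime_ab : a.Coprime b := by
  refine Nat.coprime_of_dvd' fun k hk ha hb => ?_
  have h2 : k ∣ 2 := by
    rcases h.sum with ⟨e1, e2⟩ | ⟨e1, e2⟩
    · have := Nat.dvd_sub hb ha; rwa [show b - a = 2 by omega] at this
    · have := Nat.dvd_sub ha hb; rwa [show a - b = 2 by omega] at this
  exact absurd ((Nat.prime_dvd_prime_iff_eq hk Nat.prime_two).1 h2 ▸ hb) h.b_odd

/-- `q a ≡ 2` modulo `b`. -/
theorem qa_eq : ∃ c, q * a = b * c + 2 := by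
  have := h.q4
  rcases h.sum with ⟨e1, e2⟩ | ⟨e1, e2⟩
  · obtain ⟨j, rfl⟩ : ∃ j, q = j + 2 := ⟨q - 2, by omega⟩
    exact ⟨j, by rw [e2, show a = j + 1 by omega]; ring⟩
  · exact ⟨q + 2, by rw [e1, ← e2]; ring⟩

end EvenData

section even

variable {G : Type u} [Group G] [Finite G] {q a b f : ℕ} (hd : EvenData q a b) (hq : q = 2 ^ f)
  (hS : Set.range (fun g : G => cls g) = {1, a * b, q * a, q * b})

theorem swap_sizes (hS : Set.range (fun g : G => cls g) = {1, a * b, q * a, q * b}) :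
    Set.range (fun g : G => cls g) = {1, b * a, q * b, q * a} := by
  rw [hS, mul_comm a b, Set.pair_comm (q * a)]

include hd hq hS

theorem exists_clsE {i : ℕ} (hi : i ∈ ({1, a * b, q * a, q * b} : Set ℕ)) : ∃ x : G, cls x = i := by
  rw [← hS] at hi; exact hi

theorem cls_casesE (y : G) : cls y = 1 ∨ cls y = a * b ∨ cls y = q * a ∨ cls y = q * b := by
  have : cls y ∈ Set.range (fun g : G => cls g) := ⟨y, rfl⟩
  rw [hS] at this
  simpa using this

theorem minMax_UE : MinMax G (a * b) 2 := by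
  have hq4 := hd.q4
  have ha := hd.a3
  have hb := hd.symm.a3
  have hcop := hd.coprime_qa.mul_right hd.symm.coprime_qa
  refine ⟨?_, fun y hy => ?_, fun y hy => ?_, ?_, ?_⟩
  · intro e; have := Nat.eq_one_of_mul_eq_one_right e; omega
  · rcases cls_casesE hd hq hS y with e | e | e | e
    · exact Or.inl e
    · exact Or.inr e
    all_goals
      exfalso
      rw [e] at hy
      have := Nat.eq_one_of_dvd_coprimes hcop dvd_rfl ((dvd_mul_right q _).trans hy)
      omega
  · rcases cls_casesE hd hq hS y with e | e | e | e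
    · rw [e] at hy; have := Nat.eq_one_of_mul_eq_one_right (Nat.dvd_one.1 hy); omega
    · exact e
    · exfalso
      rw [e] at hy
      have := Nat.eq_one_of_dvd_coprimes hd.symm.coprime_qa
        (hd.coprime_ab.symm.dvd_of_dvd_mul_right ((dvd_mul_left b a).trans hy)) dvd_rfl
      omega
    · exfalso
      rw [e] at hy
      have := Nat.eq_one_of_dvd_coprimes hd.coprime_qa
        (hd.coprime_ab.dvd_of_dvd_mul_right ((dvd_mul_right a b).trans hy)) dvd_rfl
      omega
  · exact fun h => hd.b_odd ((Nat.prime_two.dvd_mul.1 h).resolve_left hd.symm.b_odd)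
  · obtain ⟨y, hy⟩ := exists_clsE hd hq hS (i := q * b) (by simp)
    exact ⟨y, hy ▸ hd.q2.mul_right b⟩

theorem minMax_A {r : ℕ} [hr : Fact r.Prime] (hrb : r ∣ b) : MinMax G (q * a) r := by
  have hq4 := hd.q4
  have ha := hd.a3
  have hb := hd.symm.a3
  refine ⟨?_, fun y hy => ?_, fun y hy => ?_, ?_, ?_⟩
  · intro e; have := Nat.eq_one_of_mul_eq_one_right e; omega
  · rcases cls_casesE hd hq hS y with e | e | e | e
    · exact Or.inl e
    rotate_left
    · exact Or.inr e
    all_goals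
      exfalso
      rw [e] at hy
      have h1 : b ∣ a := hd.symm.coprime_qa.symm.dvd_of_dvd_mul_left ((dvd_mul_left b _).trans hy)
      have := Nat.eq_one_of_dvd_coprimes hd.coprime_ab h1 dvd_rfl
      omega
  · rcases cls_casesE hd hq hS y with e | e | e | e
    · rw [e] at hy; have := Nat.eq_one_of_mul_eq_one_right (Nat.dvd_one.1 hy); omega
    · exfalso
      rw [e] at hy
      have := Nat.eq_one_of_dvd_coprimes (hd.coprime_qa.mul_right hd.symm.coprime_qa) dvd_rfl
        ((dvd_mul_right q a).trans hy)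
      omega
    · exact e
    · exfalso
      rw [e] at hy
      have := Nat.eq_one_of_dvd_coprimes hd.coprime_ab dvd_rfl
        (Nat.dvd_of_mul_dvd_mul_left (show 0 < q by omega) hy)
      omega
  · rw [hr.out.dvd_mul]
    exact not_or.2 ⟨fun h => hr.out.ne_one (Nat.eq_one_of_dvd_coprimes hd.symm.coprime_qa h hrb),
      fun h => hr.out.ne_one (Nat.eq_one_of_dvd_coprimes hd.coprime_ab h hrb)⟩
  · obtain ⟨y, hy⟩ := exists_clsE hd hq hS (i := q * b) (by simp)
    exact ⟨y, hy ▸ hrb.mul_left q⟩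

/-- The order of the central quotient. -/
theorem index_centerE : (center G).index = q * (a * b) := by
  haveI : Fact (Nat.Prime 2) := ⟨Nat.prime_two⟩
  obtain ⟨r, hr, hrb⟩ := Nat.exists_prime_and_dvd (n := b) (by have := hd.symm.a3; omega)
  haveI := Fact.mk hr
  have hq4 := hd.q4
  have ha := hd.a3
  have hb := hd.symm.a3
  have hM := minMax_UE hd hq hS
  have hM' := minMax_A hd hq hS hrb
  obtain ⟨x, hx⟩ := exists_clsE hd hq hS (i := a * b) (by simp)
  obtain ⟨x', hx'⟩ := exists_clsE hd hq hS (i := q * a) (by simp)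
  obtain ⟨w, hw⟩ := exists_clsE hd hq hS (i := q * b) (by simp)
  have hqU : ∀ c, a * b ≠ q * c := fun c e => by
    have := Nat.eq_one_of_dvd_coprimes (hd.coprime_qa.mul_right hd.symm.coprime_qa) dvd_rfl
      (Dvd.intro c e.symm)
    omega
  have hw1 : cls w ≠ 1 := fun e => by
    rw [e] at hw; have := Nat.eq_one_of_mul_eq_one_right hw.symm; omega
  have hwB : cls w ≠ q * a := fun e => by
    rw [hw] at e
    have := Nat.eq_of_mul_eq_mul_left (by omega : 0 < q) e
    have := Nat.eq_one_of_dvd_coprimes hd.coprime_ab (dvd_refl a) (this ▸ dvd_rfl)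
    omega
  have h1 : ∀ s : ℕ, s.Prime → s ∣ modZ x → s ∣ q := by
    intro s hs hsd
    rcases hM.dvd_sizes hx hs hsd with rfl | hall
    · exact hd.q2
    by_contra hsq
    have hsb : s ∣ b := (hs.dvd_mul.1 (hw ▸ hall w hw1 fun e => hqU b (e.symm.trans hw))).resolve_left hsq
    have hsa : s ∣ a := (hs.dvd_mul.1 (hx' ▸ hall x' (fun e => hM'.ne_one (hx' ▸ e))
      fun e => hqU a (e.symm.trans hx'))).resolve_left hsq
    exact hs.ne_one (Nat.eq_one_of_dvd_coprimes hd.coprime_ab hsa hsb)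
  have h2 : ∀ s : ℕ, s.Prime → s ∣ modZ x' → s ∣ b := by
    intro s hs hsd
    rcases hM'.dvd_sizes hx' hs hsd with rfl | hall
    · exact hrb
    by_contra hsb
    have hsq : s ∣ q := (hs.dvd_mul.1 (hw ▸ hall w hw1 hwB)).resolve_right hsb
    have hsa : s ∣ a := (hs.dvd_mul.1 (hx ▸ hall x (fun e => hM.ne_one (hx ▸ e))
      fun e => hqU a (hx.symm.trans e))).resolve_right hsb
    exact hs.ne_one (Nat.eq_one_of_dvd_coprimes hd.coprime_qa hsq hsa)
  have e1 := modZ_mul_cls x
  have e2 := modZ_mul_cls x'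
  rw [hx] at e1
  rw [hx'] at e2
  have e : modZ x * b = modZ x' * q := by
    refine Nat.eq_of_mul_eq_mul_right (by omega : 0 < a) ?_
    calc modZ x * b * a = modZ x * (a * b) := by ring
      _ = modZ x' * (q * a) := e1.trans e2.symm
      _ = modZ x' * q * a := by ring
  have hxq : modZ x = q := by
    refine Nat.dvd_antisymm ?_ ?_
    · refine (Nat.coprime_of_dvd' fun s hs hsx hsx' => ?_ : (modZ x).Coprime (modZ x')).dvd_of_dvd_mul_left
        ⟨b, e.symm⟩
      exact dvd_of_eq (Nat.eq_one_of_dvd_coprimes hd.symm.coprime_qa (h1 s hs hsx) (h2 s hs hsx'))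
    · exact hd.symm.coprime_qa.dvd_of_dvd_mul_right ⟨modZ x', by rw [e, mul_comm]⟩
  rw [← e1, hxq]

theorem modZ_eqE {y : G} {i c : ℕ} (hy : cls y = i) (hc : q * (a * b) = c * i) (hi : i ≠ 0) : modZ y = c :=
  Nat.eq_of_mul_eq_mul_right (Nat.pos_of_ne_zero hi)
    ((hy ▸ modZ_mul_cls y : modZ y * i = (center G).index).trans ((index_centerE hd hq hS).trans hc))

theorem sizes_U (y : G) (hy : y ∉ center G) (hne : cls y ≠ a * b) : ¬ 2 ∣ modZ y := by
  have hq4 := hd.q4
  have ha := hd.a3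
  have hb := hd.symm.a3
  intro hdvd
  rcases cls_casesE hd hq hS y with e | e | e | e
  · exact hy (cls_eq_one_iff.1 e)
  · exact hne e
  · rw [modZ_eqE hd hq hS (c := b) e (by ring) (Nat.mul_ne_zero (by omega) (by omega))] at hdvd
    exact hd.b_odd hdvd
  · rw [modZ_eqE hd hq hS (c := a) e (by ring) (Nat.mul_ne_zero (by omega) (by omega))] at hdvd
    exact hd.symm.b_odd hdvd

theorem good_UE : Good (G ⧸ center G) 2 q :=
  haveI : Fact (Nat.Prime 2) := ⟨Nat.prime_two⟩
  (minMax_UE hd hq hS).good (index_centerE hd hq hS) (sizes_U hd hq hS)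

theorem good_A {r : ℕ} [hr : Fact r.Prime] (hrb : r ∣ b) : Good (G ⧸ center G) r b := by
  have hq4 := hd.q4
  have ha := hd.a3
  have hb := hd.symm.a3
  refine (minMax_A hd hq hS hrb).good ((index_centerE hd hq hS).trans (by ring)) fun y hy hne hdvd => ?_
  rcases cls_casesE hd hq hS y with e | e | e | e
  · exact hy (cls_eq_one_iff.1 e)
  · rw [modZ_eqE hd hq hS (c := q) e (by ring) (Nat.mul_ne_zero (by omega) (by omega))] at hdvd
    exact hr.out.ne_one (Nat.eq_one_of_dvd_coprimes hd.symm.coprime_qa hdvd hrb)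
  · exact hne e
  · rw [modZ_eqE hd hq hS (c := a) e (by ring) (Nat.mul_ne_zero (by omega) (by omega))] at hdvd
    exact hr.out.ne_one (Nat.eq_one_of_dvd_coprimes hd.coprime_ab hdvd hrb)

end even

/-- The hypothesis on the quotient, `q` even. -/
structure EvenHyp (H : Type u) [Group H] (f q a b : ℕ) : Prop where
  data : EvenData q a b
  hq : q = 2 ^ f
  card : Nat.card H = q * (a * b)
  goodU : Good H 2 q
  goodA : ∀ r : ℕ, r.Prime → r ∣ a → Good H r a
  goodB : ∀ r : ℕ, r.Prime → r ∣ b → Good H r b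

namespace EvenHyp

variable {H : Type u} [Group H] [Finite H] {f q a b : ℕ} (E : EvenHyp H f q a b)
include E

theorem symm : EvenHyp H f q b a :=
  ⟨E.data.symm, E.hq, by rw [E.card, mul_comm a b], E.goodU, E.goodB, E.goodA⟩

theorem ndvd : ¬ 2 ∣ a * b := fun h =>
  E.data.b_odd ((Nat.prime_two.dvd_mul.1 h).resolve_left E.data.symm.b_odd)

theorem two_facts (P : Sylow 2 H) :
    Nat.card (P : Subgroup H) = q ∧ (∀ y ∈ (P : Subgroup H), y ≠ 1 → y * y = 1 ∧
      centralizer ({y} : Set H) = (P : Subgroup H)) ∧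
    ∀ y ∈ (P : Subgroup H), y ≠ 1 → ∀ v ∈ (P : Subgroup H), v ≠ 1 → IsConj y v := by
  haveI : Fact (Nat.Prime 2) := ⟨Nat.prime_two⟩
  have hq4 := E.data.q4
  have hcard : ∀ Q : Sylow 2 H, Nat.card (Q : Subgroup H) = q := fun Q => by
    have hab : a * b ≠ 0 := fun e => E.ndvd (e ▸ dvd_zero 2)
    rw [Q.card_eq_multiplicity, E.card, E.hq,
      Nat.factorization_mul (pow_ne_zero _ two_ne_zero) hab, Finsupp.add_apply,
      Nat.Prime.factorization_pow Nat.prime_two, Finsupp.single_eq_same,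
      Nat.factorization_eq_zero_of_not_dvd E.ndvd, Nat.add_zero]
  have hcen : ∀ (Q : Sylow 2 H) (y : H), y ∈ ZR Q → y ≠ 1 → centralizer ({y} : Set H) = (Q : Subgroup H) :=
    fun Q y hy hy1 => (eq_of_le_of_card_ge (le_cen_of_mem_ZR hy) (le_of_eq (by
      rw [E.goodU.card_cen y hy1 (isR_of_mem Q.isPGroup' hy.1), hcard Q]))).symm
  have htrans : ∀ (Q : Sylow 2 H) (y : H), y ∈ ZR Q → y ≠ 1 → ∀ v ∈ ZR Q, v ≠ 1 → v ∈ orb Q y := by
    intro Q y hy hy1 v hv hv1
    obtain ⟨-, hz1, hzd, hkz, hdvd⟩ := count E.goodU E.card E.ndvd Q hy hy1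
    rw [hcard Q] at hzd hdvd
    set k := (centralizer ({y} : Set H)).relIndex (normalizer ((Q : Subgroup H) : Set H)) with hk
    set z := Nat.card (ZR Q) with hz
    have hzq : z ≤ q := Nat.le_of_dvd (by omega) hzd
    have hk0 : k ≠ 0 := fun e => by
      rw [e] at hkz; have := Nat.eq_zero_of_zero_dvd hkz; omega
    have hkle : k ≤ z - 1 := Nat.le_of_dvd (by omega) hkz
    have hkz' : k = z - 1 := by
      have h1 : (q : ℤ) ∣ ((a * b * (z - 1) + k : ℕ) : ℤ) := Int.natCast_dvd_natCast.2 hdvd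
      have hs : ((a : ℤ) * b) + 1 = q * q := by exact_mod_cast (by rw [E.data.hsq, sq] : a * b + 1 = q * q)
      have h2 : (q : ℤ) ∣ (k : ℤ) - ((z - 1 : ℕ) : ℤ) := by
        push_cast at h1
        have e : (k : ℤ) - ((z - 1 : ℕ) : ℤ) =
            ((a : ℤ) * b * ((z - 1 : ℕ) : ℤ) + k) - q * q * ((z - 1 : ℕ) : ℤ) := by rw [← hs]; ring
        rw [e]
        exact dvd_sub h1 (Dvd.dvd.mul_right (Dvd.intro _ rfl) _)
      have h3 : (q : ℤ) ∣ ((z - 1 : ℕ) : ℤ) - k := by rw [← neg_sub, dvd_neg]; exact h2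
      by_contra hne
      have := Int.le_of_dvd (by omega) h3
      omega
    classical
    haveI := Fintype.ofFinite H
    have hset : orb Q y = {w | w ∈ ZR Q ∧ w ≠ 1} := by
      refine Set.eq_of_subset_of_ncard_le (orb_subset hy hy1) ?_ (Set.toFinite _)
      rw [ncard_orb E.goodU hy hy1, ← hk, hkz', hz, ← Nat.card_coe_set_eq]
      show Nat.card {w // w ∈ ZR Q ∧ w ≠ 1} ≤ _
      rw [Nat.card_eq_fintype_card, Fintype.card_subtype, ← Finset.filter_filter, Finset.filter_ne',
        Finset.card_erase_of_mem (by simp [Subgroup.one_mem]), ← Fintype.card_subtype,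
        ← Nat.card_eq_fintype_card]
    rw [hset]; exact ⟨hv, hv1⟩
  have hsq : ∀ v : H, IsR 2 v → v * v = 1 := by
    intro v hvr
    by_cases hv1 : v = 1
    · rw [hv1, mul_one]
    obtain ⟨Q, -, hvQ⟩ := exists_sylow_ZR E.goodU E.card E.ndvd hv1 hvr
    obtain ⟨c, hc⟩ := exists_prime_orderOf_dvd_card' (G := ↥(ZR Q)) 2 (by
      have h1 : 1 < Nat.card (ZR Q) := (count E.goodU E.card E.ndvd Q hvQ hv1).2.1
      obtain ⟨j, hj⟩ := IsPGroup.iff_card.1 (Q.isPGroup'.to_le (show ZR Q ≤ (Q : Subgroup H) from inf_le_left))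
      rw [hj] at h1 ⊢
      exact dvd_pow_self 2 (fun e => by rw [e, pow_zero] at h1; omega))
    have hco : orderOf (c : H) = 2 := by rw [Subgroup.orderOf_coe, hc]
    have hcc : (c : H) * c = 1 := by rw [← sq]; exact orderOf_dvd_iff_pow_eq_one.1 (dvd_of_eq hco)
    obtain ⟨n, -, rfl⟩ := htrans Q c c.2 (fun e => by rw [e, orderOf_one] at hco; omega) v hvQ hv1
    calc n * c * n⁻¹ * (n * c * n⁻¹) = n * ((c : H) * c) * n⁻¹ := by group
      _ = 1 := by rw [hcc]; group
  have hinv : ∀ y ∈ (P : Subgroup H), y⁻¹ = y := fun y hy =>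
    inv_eq_of_mul_eq_one_right (hsq y (isR_of_mem P.isPGroup' hy))
  have hPab : ∀ y ∈ (P : Subgroup H), y ∈ ZR P := fun y hy => ⟨hy, mem_centralizer_iff.2 fun v hv => by
    calc v * y = (v * y)⁻¹ := (hinv _ (mul_mem hv hy)).symm
      _ = y * v := by rw [mul_inv_rev, hinv y hy, hinv v hv]⟩
  refine ⟨hcard P, fun y hy hy1 => ⟨hsq y (isR_of_mem P.isPGroup' hy), hcen P y (hPab y hy) hy1⟩,
    fun y hy hy1 v hv hv1 => ?_⟩
  obtain ⟨n, -, e⟩ := htrans P y (hPab y hy) hy1 v (hPab v hv) hv1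
  exact isConj_iff.2 ⟨n, e⟩

theorem exists_sylow_two {y : H} (hy1 : y ≠ 1) (hy : IsR 2 y) : ∃ P : Sylow 2 H, y ∈ (P : Subgroup H) :=
  haveI : Fact (Nat.Prime 2) := ⟨Nat.prime_two⟩
  let ⟨P, _, hP⟩ := exists_sylow_ZR E.goodU E.card E.ndvd hy1 hy
  ⟨P, hP.1⟩

theorem order_two {g : H} (h2 : 2 ∣ orderOf g) : orderOf g = 2 := by
  haveI : Fact (Nat.Prime 2) := ⟨Nat.prime_two⟩
  set u := g ^ (orderOf g / 2) with hu
  have huo : orderOf u = 2 := orderOf_pow_orderOf_div (orderOf_pos g).ne' h2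
  have hu1 : u ≠ 1 := fun e => by rw [e, orderOf_one] at huo; omega
  obtain ⟨P, hP⟩ := E.exists_sylow_two hu1 (isR_of_orderOf (a := 1) (by rw [huo, pow_one]))
  obtain ⟨-, hfac, -⟩ := E.two_facts P
  have hgP : g ∈ (P : Subgroup H) := by
    rw [← (hfac u hP hu1).2, mem_centralizer_singleton_iff, hu]
    exact (Commute.self_pow g _).eq
  exact orderOf_eq_prime (by rw [sq]; exact (hfac g hgP (fun e => by rw [e, orderOf_one] at h2; omega)).1)
    (fun e => by rw [e, orderOf_one] at h2; omega)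

theorem real_of_b {g : H} {r : ℕ} [hr : Fact r.Prime] (hg : r ∣ orderOf g) (hrb : r ∣ b) :
    ∃ t : H, t * t = 1 ∧ t * g * t⁻¹ = g⁻¹ := by
  have hgood := E.goodB r hr.out hrb
  have hH : Nat.card H = b * (q * a) := E.card.trans (by ring)
  have hri : ¬ r ∣ q * a := by
    rw [hr.out.dvd_mul]
    exact not_or.2 ⟨fun h => hr.out.ne_one (Nat.eq_one_of_dvd_coprimes E.data.symm.coprime_qa h hrb),
      fun h => hr.out.ne_one (Nat.eq_one_of_dvd_coprimes E.data.coprime_ab h hrb)⟩
  set y := g ^ (orderOf g / r) with hydef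
  have hyo : orderOf y = r := orderOf_pow_orderOf_div (orderOf_pos g).ne' hg
  have hy1 : y ≠ 1 := fun e => hr.out.one_lt.ne (by rw [← hyo, e, orderOf_one])
  have hyr : IsR r y := isR_of_orderOf (a := 1) (by rw [hyo, pow_one])
  obtain ⟨R, hRC, hyR⟩ := exists_sylow_ZR hgood hH hri hy1 hyr
  obtain ⟨hCN, hz1, hzd, hkz, hdvd⟩ := count hgood hH hri R hyR hy1
  set N := normalizer ((R : Subgroup H) : Set H) with hN
  set C := centralizer ({y} : Set H) with hC
  set k := C.relIndex N with hk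
  set z := Nat.card (ZR R) with hz
  have hCb : Nat.card C = b := hgood.card_cen y hy1 hyr
  have hbodd := E.data.b_odd
  obtain ⟨e, he⟩ := IsPGroup.iff_card.1 R.isPGroup'
  have hRb : Nat.card (R : Subgroup H) ∣ b := hCb ▸ card_dvd_of_le hRC
  obtain ⟨c, hc⟩ := E.data.qa_eq
  have hr3 : 3 ≤ r := by
    have := hr.out.two_le
    have : r ≠ 2 := fun e => hbodd (e ▸ hrb)
    omega
  have hdvd' : Nat.card (R : Subgroup H) ∣ 2 * (z - 1) + k := by
    rw [hc, show (b * c + 2) * (z - 1) + k = b * c * (z - 1) + (2 * (z - 1) + k) by ring] at hdvd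
    exact (Nat.dvd_add_right (((hRb.mul_right c)).mul_right (z - 1))).1 hdvd
  have hk0 : k ≠ 0 := fun e => by
    rw [e] at hkz; have := Nat.eq_zero_of_zero_dvd hkz; omega
  have hkle : k ≤ z - 1 := Nat.le_of_dvd (by omega) hkz
  have hzR : z = Nat.card (R : Subgroup H) := by
    rw [he] at hzd hdvd' ⊢
    obtain ⟨j, hj, hzj⟩ := (Nat.dvd_prime_pow hr.out).1 hzd
    by_contra hne
    have hlt : j < e := lt_of_le_of_ne hj fun h => hne (h ▸ hzj)
    have h1 : r ^ (j + 1) ≤ 2 * (z - 1) + k :=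
      Nat.le_of_dvd (by omega) ((pow_dvd_pow r hlt).trans hdvd')
    rw [pow_succ, ← hzj] at h1
    have : z * 3 ≤ z * r := Nat.mul_le_mul_left z hr3
    omega
  have hk2 : k = 2 := by
    rw [← hzR] at hdvd'
    obtain ⟨m, hm⟩ := hdvd'
    rcases m with _ | _ | _ | m
    · omega
    · omega
    · omega
    · have : z * 3 ≤ z * (m + 1 + 1 + 1) := Nat.mul_le_mul_left z (by omega)
      omega
  have hZR : ZR R = (R : Subgroup H) := eq_of_le_of_card_ge inf_le_left hzR.symm.le
  -- the centraliser is abelian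
  have hab : ∀ u ∈ C, ∀ v ∈ C, u * v = v * u := by
    intro u hu v hv
    refine mem_centralizer_singleton_iff.1 (Cfsg.Lib.Struct.MaxCent.mem_of_primary_parts
      (H := centralizer ({v} : Set H)) fun s w hs hw hwk => ?_)
    have hwC : w ∈ C := zpowers_le.2 hu hw
    obtain ⟨j, hj⟩ := hwk
    rw [mem_centralizer_singleton_iff]
    by_cases hsr : s = r
    · have hwR : w ∈ ZR R := by
        rw [hZR]; exact mem_sylow_of_cen hgood hy1 hyr hRC hwC (isR_of_orderOf (hsr ▸ hj))
      have hw1 := hwR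
      by_cases hw0 : w = 1
      · simp [hw0]
      · rw [hC, ← cen_eq_of_mem_ZR hgood hyR hy1 hwR hw0] at hv
        exact (mem_centralizer_singleton_iff.1 hv).symm
    · exact hgood.central y hy1 hyr w hwC
        ((isR_of_orderOf hj).coprime fun e => hsr ((Nat.prime_dvd_prime_iff_eq hs.out hr.out).1 e)) v hv
  -- an involution of the normaliser outside the centraliser
  obtain ⟨h, hhN, hhC⟩ : ∃ h ∈ N, h ∉ C := by
    by_contra hcon
    push Not at hcon
    rw [hk, relIndex_eq_one.2 hcon] at hk2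
    omega
  have hh2 : h * h ∈ C := by
    have := mul_self_mem_of_index_two (H := C.subgroupOf N) hk2 ⟨h, hhN⟩
    simpa [mem_subgroupOf] using this
  set t := h ^ b with ht
  obtain ⟨j, hj⟩ : ∃ j, b = 2 * j + 1 := ⟨b / 2, by omega⟩
  have htt : t * t = 1 := by
    rw [ht, ← pow_add, ← two_mul, pow_mul, sq]
    exact orderOf_dvd_iff_pow_eq_one.1 (hCb ▸ Subgroup.orderOf_dvd_natCard C hh2)
  have htC : t ∉ C := fun htm => hhC (by
    rw [ht, hj, pow_succ, pow_mul, sq] at htm
    have := C.mul_mem (C.inv_mem (C.pow_mem hh2 j)) htm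
    rwa [inv_mul_cancel_left] at this)
  have htN : t ∈ N := pow_mem hhN b
  refine ⟨t, htt, Cfsg.Lib.Sig.conj_eq_inv_of_fixedPointFree htt (N := C) (fun n hn => ?_)
    ((eq_bot_iff_forall _).2 fun v ⟨hv, hvt⟩ => ?_) ?_⟩
  · have h1 := conj_mem_ZR htN hyR
    have h2 := cen_eq_of_mem_ZR hgood hyR hy1 h1 (fun e => hy1 (conj_eq_one_iff.1 e))
    rw [hC, ← h2, mem_centralizer_singleton_iff]
    rw [hC, mem_centralizer_singleton_iff] at hn
    calc t * n * t⁻¹ * (t * y * t⁻¹) = t * (n * y) * t⁻¹ := by group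
      _ = t * y * t⁻¹ * (t * n * t⁻¹) := by rw [hn]; group
  · by_contra hv1
    replace hvt : v ∈ centralizer ({t} : Set H) := hvt
    obtain ⟨s, hs, hsv⟩ := Nat.exists_prime_and_dvd (n := orderOf v) (fun e => hv1 (orderOf_eq_one_iff.1 e))
    haveI := Fact.mk hs
    have hsb : s ∣ b := hsv.trans (hCb ▸ Subgroup.orderOf_dvd_natCard C hv)
    set v1 := v ^ (orderOf v / s) with hv1def
    have hv1o : orderOf v1 = s := orderOf_pow_orderOf_div (orderOf_pos v).ne' hsv
    have hv11 : v1 ≠ 1 := fun e => hs.one_lt.ne (by rw [← hv1o, e, orderOf_one])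
    have heq : C = centralizer ({v1} : Set H) := eq_of_le_of_card_ge
      (fun u hu => mem_centralizer_singleton_iff.2 (hab u hu v1 (C.pow_mem hv _)))
      (le_of_eq (by rw [(E.goodB s hs hsb).card_cen v1 hv11 (isR_of_orderOf (a := 1) (by rw [hv1o, pow_one])), hCb]))
    refine htC (heq.ge (mem_centralizer_singleton_iff.2 ?_))
    rw [mem_centralizer_singleton_iff] at hvt
    exact (Commute.pow_right (show Commute t v from hvt.symm) _).eq
  · rw [hC, mem_centralizer_singleton_iff, hydef]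
    exact (Commute.self_pow g _).eq

theorem real {g : H} (hg1 : g ≠ 1) (hodd : ¬ 2 ∣ orderOf g) : ∃ t : H, t * t = 1 ∧ t * g * t⁻¹ = g⁻¹ := by
  obtain ⟨r, hr, hrg⟩ := Nat.exists_prime_and_dvd (n := orderOf g) (fun e => hg1 (orderOf_eq_one_iff.1 e))
  haveI := Fact.mk hr
  have hrH : r ∣ q * (a * b) := E.card ▸ hrg.trans (orderOf_dvd_natCard g)
  rcases hr.dvd_mul.1 hrH with h | h
  · exfalso
    rw [E.hq] at h
    exact hodd (((Nat.prime_dvd_prime_iff_eq hr Nat.prime_two).1 (hr.dvd_of_dvd_pow h)) ▸ hrg)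
  · rcases hr.dvd_mul.1 h with h | h
    · exact E.symm.real_of_b hrg h
    · exact E.real_of_b hrg h

theorem isSimple : IsSimpleGroup H := by
  haveI : Fact (Nat.Prime 2) := ⟨Nat.prime_two⟩
  have hq4 := E.data.q4
  haveI : Nontrivial H := by
    rw [← Finite.one_lt_card_iff_nontrivial, E.card]
    have := E.data.a3
    have := E.data.symm.a3
    have h1 : 1 ≤ a * b := Nat.mul_pos (by omega) (by omega)
    calc 1 < q * 1 := by omega
      _ ≤ q * (a * b) := Nat.mul_le_mul_left q h1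
  refine ⟨fun M hM => ?_⟩
  by_cases hne : M = ⊥
  · exact Or.inl hne
  right
  obtain ⟨P⟩ : Nonempty (Sylow 2 H) := inferInstance
  obtain ⟨hPq, hfac, hconjP⟩ := E.two_facts P
  have hIconj : ∀ u v : H, u * u = 1 → u ≠ 1 → v * v = 1 → v ≠ 1 → IsConj u v := by
    intro u v hu hu1 hv hv1
    obtain ⟨U, hU⟩ := E.exists_sylow_two hu1 ⟨1, by rw [pow_one, sq]; exact hu⟩
    obtain ⟨V, hV⟩ := E.exists_sylow_two hv1 ⟨1, by rw [pow_one, sq]; exact hv⟩
    obtain ⟨n, hn⟩ := MulAction.exists_smul_eq H U V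
    have hV' : n * u * n⁻¹ ∈ (V : Subgroup H) := by
      rw [← hn, Sylow.coe_subgroup_smul]
      exact ⟨u, hU, by simp⟩
    exact (isConj_iff.2 ⟨n, rfl⟩).trans
      ((E.two_facts V).2.2 _ hV' (fun e => hu1 (conj_eq_one_iff.1 e)) v hV hv1)
  by_cases h2M : 2 ∣ Nat.card M
  · obtain ⟨t, ht⟩ := exists_prime_orderOf_dvd_card' (G := ↥M) 2 h2M
    have hto : orderOf (t : H) = 2 := by rw [Subgroup.orderOf_coe, ht]
    have htt : (t : H) * t = 1 := by rw [← sq]; exact orderOf_dvd_iff_pow_eq_one.1 (dvd_of_eq hto)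
    have ht1 : (t : H) ≠ 1 := fun e => by rw [e, orderOf_one] at hto; omega
    have hI : ∀ u : H, u * u = 1 → u ∈ M := by
      intro u hu
      by_cases hu1 : u = 1
      · exact hu1 ▸ M.one_mem
      obtain ⟨c, rfl⟩ := isConj_iff.1 (hIconj t u htt ht1 hu hu1)
      exact hM.conj_mem _ t.2 c
    rw [eq_top_iff']
    intro g
    by_cases hg1 : g = 1
    · exact hg1 ▸ M.one_mem
    by_cases h2g : 2 ∣ orderOf g
    · exact hI g (by rw [← sq]; exact orderOf_dvd_iff_pow_eq_one.1 (dvd_of_eq (E.order_two h2g)))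
    obtain ⟨s, hs, hsg⟩ := E.real hg1 h2g
    have hsi : s⁻¹ = s := inv_eq_of_mul_eq_one_right hs
    rw [hsi] at hsg
    have h1 : (s * g) * (s * g) = 1 := by
      rw [show s * g * (s * g) = s * g * s * g by group, hsg, inv_mul_cancel]
    have := M.mul_mem (hI s hs) (hI _ h1)
    rwa [← mul_assoc, hs, one_mul] at this
  · exfalso
    obtain ⟨m, hm, hm1⟩ := M.bot_or_exists_ne_one.resolve_left hne
    have hinv : ∀ t ∈ (P : Subgroup H), t ≠ 1 → t * m * t⁻¹ = m⁻¹ := by
      intro t ht ht1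
      refine Cfsg.Lib.Sig.conj_eq_inv_of_fixedPointFree (hfac t ht ht1).1 (fun n hn => hM.conj_mem n hn t)
        ((eq_bot_iff_forall _).2 fun v ⟨hv, hvt⟩ => ?_) hm
      by_contra hv1
      replace hvt : v ∈ centralizer ({t} : Set H) := hvt
      rw [(hfac t ht ht1).2] at hvt
      refine h2M ?_
      have : orderOf v = 2 := orderOf_eq_prime (by rw [sq]; exact (hfac v hvt hv1).1) hv1
      exact this ▸ Subgroup.orderOf_dvd_natCard M hv
    obtain ⟨t, t', hn1, hn2, hne'⟩ : ∃ t t' : ↥(P : Subgroup H), t ≠ 1 ∧ t' ≠ 1 ∧ t' ≠ t := by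
      classical
      haveI := Fintype.ofFinite ↥(P : Subgroup H)
      have hP4 : 4 ≤ Fintype.card ↥(P : Subgroup H) := by rw [← Nat.card_eq_fintype_card, hPq]; exact hq4
      obtain ⟨t, ht⟩ := Fintype.exists_ne_of_one_lt_card (by omega : 1 < Fintype.card ↥(P : Subgroup H)) 1
      obtain ⟨t', ht'⟩ := Finset.exists_mem_notMem_of_card_lt_card (s := ({1, t} : Finset ↥(P : Subgroup H)))
        (t := Finset.univ) (by
          rw [Finset.card_univ, Finset.card_pair ht.symm]
          omega)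
      have h' := ht'.2
      simp only [Finset.mem_insert, Finset.mem_singleton, not_or] at h'
      exact ⟨t, t', ht, h'.1, h'.2⟩
    have htt : (t : H) * t = 1 := (hfac t t.2 (fun e => hn1 (Subtype.ext e))).1
    have hti : (t : H)⁻¹ = t := inv_eq_of_mul_eq_one_right htt
    have hprod : (t : H) * t' ≠ 1 := fun e => hne' (Subtype.ext
      ((eq_inv_of_mul_eq_one_right e).trans hti))
    have e1 := hinv t t.2 (fun e => hn1 (Subtype.ext e))
    have e2 := hinv t' t'.2 (fun e => hn2 (Subtype.ext e))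
    have e3 := hinv _ ((P : Subgroup H).mul_mem t.2 t'.2) hprod
    rw [show (t : H) * t' * m * ((t : H) * t')⁻¹ = t * (t' * m * (t' : H)⁻¹) * (t : H)⁻¹ by group, e2,
      ← conj_inv, e1, inv_inv] at e3
    have hsq : orderOf m ∣ 2 := orderOf_dvd_of_pow_eq_one (by rw [sq]; nth_rw 1 [e3]; rw [inv_mul_cancel])
    rcases (Nat.dvd_prime Nat.prime_two).1 hsq with e | e
    · exact hm1 (orderOf_eq_one_iff.1 e)
    · exact h2M (e ▸ Subgroup.orderOf_dvd_natCard M hm)

theorem iso {F : Type v} [Field F] [Fintype F] (hF : Fintype.card F = q) :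
    Nonempty (H ≃* Matrix.ProjectiveSpecialLinearGroup (Fin 2) F) := by
  haveI : Fact (Nat.Prime 2) := ⟨Nat.prime_two⟩
  haveI := E.isSimple
  have hq4 := E.data.q4
  obtain ⟨P⟩ : Nonempty (Sylow 2 H) := inferInstance
  obtain ⟨hPq, hfac, -⟩ := E.two_facts P
  have h2P : 2 ∣ Nat.card (P : Subgroup H) := hPq ▸ E.data.q2
  obtain ⟨y, hy⟩ := exists_prime_orderOf_dvd_card' (G := ↥(P : Subgroup H)) 2 h2P
  have hyo : orderOf (y : H) = 2 := by rw [Subgroup.orderOf_coe, hy]
  have hy1 : (y : H) ≠ 1 := fun e => by rw [e, orderOf_one] at hyo; omega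
  have hG : Nat.card H = (q + 1) * q * (q - 1) := by
    rw [E.card]
    have h1 := E.data.hsq
    have h2 : (q + 1) * (q - 1) = q ^ 2 - 1 := by rw [← Nat.sq_sub_sq, one_pow]
    calc q * (a * b) = q * ((q + 1) * (q - 1)) := by rw [h2, ← h1, Nat.add_sub_cancel]
      _ = (q + 1) * q * (q - 1) := by ring
  obtain ⟨m, K, iK, iKF, hK, hqm, ⟨e⟩⟩ := Cfsg.Lib.Small.iso_psl_even (G := H) (q := q) (by omega) hG hyo
    (by rw [(hfac y y.2 hy1).2, hPq])
    (fun u hu => by
      have hu1 : u ≠ 1 := fun e => by rw [e, orderOf_one] at hu; omega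
      obtain ⟨U, hU⟩ := E.exists_sylow_two hu1 (isR_of_orderOf (a := 1) (by rw [hu, pow_one]))
      obtain ⟨n, hn⟩ := MulAction.exists_smul_eq H P U
      have hV' : n * (y : H) * n⁻¹ ∈ (U : Subgroup H) := by
        rw [← hn, Sylow.coe_subgroup_smul]
        exact ⟨y, y.2, by simp⟩
      exact (isConj_iff.2 ⟨n, rfl⟩).trans
        ((E.two_facts U).2.2 _ hV' (fun e => hy1 (conj_eq_one_iff.1 e)) u hU hu1))
    (fun g hg => E.order_two hg)
  exact ⟨e.trans (Cfsg.Lib.Dickson.pslEquiv (FiniteField.ringEquivOfCardEq (by rw [hK, ← hqm, hF])))⟩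

end EvenHyp

/-- The central quotient, `q` even. -/
theorem quot_iso_even {G : Type u} [Group G] [Finite G] {F : Type v} [Field F] [Fintype F] {a b : ℕ}
    (hd : EvenData (Fintype.card F) a b)
    (hS : Set.range (fun g : G => cls g) = {1, a * b, Fintype.card F * a, Fintype.card F * b}) :
    Nonempty (G ⧸ center G ≃* Matrix.ProjectiveSpecialLinearGroup (Fin 2) F) := by
  obtain ⟨p, hpp, -, f, hf0, hf⟩ := Cfsg.Lib.Dickson.exists_char (F := F)
  have hp2 : p = 2 := ((Nat.prime_dvd_prime_iff_eq Nat.prime_two hpp).1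
    (Nat.prime_two.dvd_of_dvd_pow (hf ▸ hd.q2))).symm
  subst hp2
  refine EvenHyp.iso (f := f) (a := a) (b := b)
    { data := hd
      hq := hf
      card := by rw [← index_eq_card, index_centerE hd hf hS]
      goodU := good_UE hd hf hS
      goodA := fun r hr h => haveI := Fact.mk hr; good_A hd.symm hf (swap_sizes hS) h
      goodB := fun r hr h => haveI := Fact.mk hr; good_A hd hf hS h } rfl

end Cfsg.Lib.ClassSizePSL
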