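import Cfsg.Agent.Lib.ClassSizePSL.Count
import Cfsg.Agent.Lib.Coprime.Generation
import Cfsg.Agent.Lib.Local.QdRankTwo
import Mathlib.GroupTheory.Transfer

/-!
# A group acting on an elementary abelian `p`-group is `p`-closed

The elements of order prime to `p` act freely, those of order `p` with `(vn) ^ p = 1`.
-/

set_option autoImplicit false
set_option linter.unusedSectionVars false
set_option linter.style.haveILetI false

open Subgroup

namespace Cfsg.Lib.ClassSizePSL

universe u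

variable {H : Type u} [Group H] [Finite H] {p : ℕ} [hp : Fact p.Prime]

/-- The situation: `N` normalises the nontrivial abelian `V`. -/
structure Local (p : ℕ) (N V : Subgroup H) : Prop where
  hne : ∃ v ∈ V, v ≠ 1
  conj_mem : ∀ n ∈ N, ∀ v ∈ V, n * v * n⁻¹ ∈ V
  comm : ∀ v ∈ V, ∀ w ∈ V, v * w = w * v
  pV : IsPGroup p V
  exp : ∀ x : H, IsR p x → x ^ p = 1
  cenV : ∀ v ∈ V, v ≠ 1 → ∀ h ∈ centralizer ({v} : Set H), IsR p h
  cenP : ∀ x : H, x ≠ 1 → IsR p x → ∀ h ∈ centralizer ({x} : Set H), IsR p h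
  odd : ¬ 2 ∣ Nat.card N

namespace Local

variable {N V : Subgroup H} (L : Local p N V)
include L

theorem eq_one_of_isR {Q : Subgroup H} (hQ : ¬ p ∣ Nat.card Q) {s : H} (hs : s ∈ Q) (hr : IsR p s) : s = 1 := by
  obtain ⟨a, ha⟩ := hr.orderOf
  rcases a with _ | a
  · exact orderOf_eq_one_iff.1 (ha.trans (pow_zero p))
  · exact absurd (((dvd_pow_self p a.succ_ne_zero).trans (dvd_of_eq ha.symm)).trans
      (Subgroup.orderOf_dvd_natCard Q hs)) hQ

/-- No nontrivial `p`-element normalises a nontrivial `p'`-subgroup. -/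
theorem norm_lemma {Q : Subgroup H} (hQN : Q ≤ N) (hQ : ¬ p ∣ Nat.card Q) (hQne : Q ≠ ⊥) {n : H} (hn : n ∈ N)
    (hn1 : n ≠ 1) (hnr : IsR p n) (hnQ : ∀ s ∈ Q, n * s * n⁻¹ ∈ Q) : False := by
  classical
  haveI := Fintype.ofFinite H
  letI : CommGroup ↥V :=
    { (inferInstance : Group ↥V) with mul_comm := fun a b => Subtype.ext (L.comm a a.2 b b.2) }
  let cj : ↥N → (↥V →* ↥V) := fun m =>
    { toFun := fun v => ⟨(m : H) * v * (m : H)⁻¹, L.conj_mem m m.2 v v.2⟩
      map_one' := Subtype.ext (by simp)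
      map_mul' := fun a b => Subtype.ext (by simp only [Subgroup.coe_mul]; group) }
  have cj_mul : ∀ (a b : ↥N) (v : ↥V), cj (a * b) v = cj a (cj b v) := fun a b v =>
    Subtype.ext (by
      show ((a * b : ↥N) : H) * v * ((a * b : ↥N) : H)⁻¹ = a * ((b : H) * v * (b : H)⁻¹) * (a : H)⁻¹
      simp only [Subgroup.coe_mul]; group)
  set nn : ↥N := ⟨n, hn⟩ with hnn
  -- the sum over the powers of `n` vanishes
  have hPhi : ∀ v : ↥V, ∏ i ∈ Finset.range p, cj (nn ^ i) v = 1 := by
    intro v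
    have h1 : ∀ m : ℕ, ((∏ i ∈ Finset.range m, cj (nn ^ i) v : ↥V) : H) = ((v : H) * n) ^ m * (n ^ m)⁻¹ := by
      intro m
      induction m with
      | zero => simp
      | succ m ih =>
        rw [Finset.prod_range_succ, Subgroup.coe_mul, ih]
        show ((v : H) * n) ^ m * (n ^ m)⁻¹ * (((nn ^ m : ↥N) : H) * v * ((nn ^ m : ↥N) : H)⁻¹) = _
        rw [SubmonoidClass.coe_pow, hnn, pow_succ, pow_succ]
        group
    have hP : IsPGroup p (zpowers n) := by
      obtain ⟨a, ha⟩ := hnr.orderOf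
      exact IsPGroup.of_card (by rw [Nat.card_zpowers, ha])
    have hle : zpowers n ≤ normalizer (V : Set H) := zpowers_le.2 (mem_normalizer_iff.2 fun w =>
      ⟨fun hw => L.conj_mem n hn w hw, fun hw => by
        have := L.conj_mem n⁻¹ (inv_mem hn) _ hw
        simpa [mul_assoc] using this⟩)
    have hvn : IsR p ((v : H) * n) := isR_of_mem (hP.to_sup_of_normal_right' L.pV hle)
      (mul_mem (mem_sup_right v.2) (mem_sup_left (mem_zpowers n)))
    apply Subtype.ext
    rw [h1 p, L.exp _ hvn, L.exp n hnr, inv_one, mul_one, OneMemClass.coe_one]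
  obtain ⟨v0, hv0, hv01⟩ := L.hne
  haveI := Fintype.ofFinite ↥Q
  let w : ↥V := ⟨v0, hv0⟩
  let ι : ↥Q → ↥N := fun s => ⟨s, hQN s.2⟩
  set X : ↥V := ∏ s : ↥Q, ∏ i ∈ Finset.range p, cj (ι s * nn ^ i * (ι s)⁻¹) w with hX
  have hX1 : X = 1 := by
    refine Finset.prod_eq_one fun s _ => ?_
    rw [show (∏ i ∈ Finset.range p, cj (ι s * nn ^ i * (ι s)⁻¹) w) =
      cj (ι s) (∏ i ∈ Finset.range p, cj (nn ^ i) (cj (ι s)⁻¹ w)) by
        rw [map_prod]; exact Finset.prod_congr rfl fun i _ => by rw [cj_mul, cj_mul]]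
    rw [hPhi, map_one]
  -- the terms with `i ≠ 0`
  have hi0 : ∀ i ∈ Finset.range p, i ≠ 0 → ∏ s : ↥Q, cj (ι s * nn ^ i * (ι s)⁻¹) w = 1 := by
    intro i hi hne
    have hni : n ^ i ≠ 1 := fun e => by
      have h1 := orderOf_dvd_of_pow_eq_one e
      rw [orderOf_eq_prime (L.exp n hnr) hn1] at h1
      exact absurd (Nat.le_of_dvd (Nat.pos_of_ne_zero hne) h1) (not_le.2 (Finset.mem_range.1 hi))
    have hniQ : ∀ j : ℕ, ∀ s ∈ Q, n ^ j * s * (n ^ j)⁻¹ ∈ Q := by
      intro j
      induction j with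
      | zero => intro s hs; simpa using hs
      | succ j ih =>
        intro s hs
        rw [pow_succ', show n * n ^ j * s * (n * n ^ j)⁻¹ = n * (n ^ j * s * (n ^ j)⁻¹) * n⁻¹ by group]
        exact hnQ _ (ih s hs)
    have hφQ : ∀ s : ↥Q, (s : H) * n ^ i * (s : H)⁻¹ * (n ^ i)⁻¹ ∈ Q := fun s => by
      rw [show (s : H) * n ^ i * (s : H)⁻¹ * (n ^ i)⁻¹ = s * (n ^ i * (s : H)⁻¹ * (n ^ i)⁻¹) by group]
      exact mul_mem s.2 (hniQ i _ (inv_mem s.2))
    let φ : ↥Q → ↥Q := fun s => ⟨_, hφQ s⟩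
    have hφ : Function.Injective φ := by
      intro a b e
      have e' : (a : H) * n ^ i * (a : H)⁻¹ * (n ^ i)⁻¹ = b * n ^ i * (b : H)⁻¹ * (n ^ i)⁻¹ :=
        congrArg Subtype.val e
      have hc : (b : H)⁻¹ * a ∈ centralizer ({n ^ i} : Set H) := by
        rw [mem_centralizer_singleton_iff]
        calc (b : H)⁻¹ * a * n ^ i = (b : H)⁻¹ * (a * n ^ i * (a : H)⁻¹ * (n ^ i)⁻¹) * (n ^ i * a) := by group
          _ = n ^ i * ((b : H)⁻¹ * a) := by rw [e']; group
      exact Subtype.ext (inv_mul_eq_one.1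
        (L.eq_one_of_isR hQ (mul_mem (inv_mem b.2) a.2) (L.cenP _ hni (hnr.mono i) _ hc))).symm
    have hrw : ∀ s : ↥Q, cj (ι s * nn ^ i * (ι s)⁻¹) w = cj (ι (φ s)) (cj (nn ^ i) w) := fun s => by
      rw [← cj_mul]
      refine congrArg (fun m => cj m w) (Subtype.ext ?_)
      show (s : H) * n ^ i * (s : H)⁻¹ = (s : H) * n ^ i * (s : H)⁻¹ * (n ^ i)⁻¹ * n ^ i
      group
    rw [Finset.prod_congr rfl fun s _ => hrw s,
      Function.Bijective.prod_comp (Finite.injective_iff_bijective.1 hφ) fun q => cj (ι q) (cj (nn ^ i) w)]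
    set u : ↥V := ∏ q : ↥Q, cj (ι q) (cj (nn ^ i) w) with hu
    by_contra hu1
    obtain ⟨c, hc, hc1⟩ := Q.bot_or_exists_ne_one.resolve_left hQne
    have hfix : cj (ι ⟨c, hc⟩) u = u := by
      rw [hu, map_prod]
      rw [Finset.prod_congr rfl fun q _ => (cj_mul (ι ⟨c, hc⟩) (ι q) _).symm]
      exact Function.Bijective.prod_comp (Group.mulLeft_bijective (⟨c, hc⟩ : ↥Q))
        fun q => cj (ι q) (cj (nn ^ i) w)
    refine hc1 (L.eq_one_of_isR hQ hc (L.cenV u u.2 (fun e => hu1 (Subtype.ext e)) c ?_))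
    rw [mem_centralizer_singleton_iff]
    exact mul_inv_eq_iff_eq_mul.1 (congrArg Subtype.val hfix)
  have hwQ : w ^ Fintype.card ↥Q = 1 := by
    rw [← hX1, hX, Finset.prod_comm, Finset.prod_eq_single_of_mem 0
      (Finset.mem_range.2 hp.out.pos) fun i hi hne => hi0 i hi hne]
    rw [Finset.prod_congr rfl fun s _ => (show cj (ι s * nn ^ 0 * (ι s)⁻¹) w = w from Subtype.ext (by
      show ((ι s * nn ^ 0 * (ι s)⁻¹ : ↥N) : H) * v0 * ((ι s * nn ^ 0 * (ι s)⁻¹ : ↥N) : H)⁻¹ = v0
      simp)), Finset.prod_const, Finset.card_univ]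
  obtain ⟨a, ha⟩ := (isR_of_mem L.pV hv0).orderOf
  have h1 : orderOf v0 ∣ Fintype.card ↥Q := orderOf_dvd_of_pow_eq_one (congrArg Subtype.val hwQ)
  rw [ha, ← Nat.card_eq_fintype_card] at h1
  rcases a with _ | a
  · exact hv01 (orderOf_eq_one_iff.1 (ha.trans (pow_zero p)))
  · exact hQ ((dvd_pow_self p a.succ_ne_zero).trans h1)

theorem cyclic_sylow {s : ℕ} [hs : Fact s.Prime] (hsp : s ≠ p) {S : Subgroup H} (hSN : S ≤ N)
    (hS : IsPGroup s S) : IsCyclic S := by
  by_cases hne : S = ⊥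
  · subst hne; infer_instance
  haveI : Nontrivial ↥S := (Subgroup.nontrivial_iff_ne_bot S).2 hne
  have hsS : s ∣ Nat.card S := (hS.nontrivial_iff_card.1 inferInstance).elim fun a ha =>
    ha.2 ▸ dvd_pow_self s ha.1.ne'
  have hs2 : s ≠ 2 := fun e => L.odd ((e ▸ hsS).trans (card_dvd_of_le hSN))
  haveI := hS.center_nontrivial
  obtain ⟨c, hc⟩ := exists_prime_orderOf_dvd_card' (G := center ↥S) s
    (((hS.to_subgroup (center ↥S)).nontrivial_iff_card.1 inferInstance).elim fun a ha =>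
      ha.2 ▸ dvd_pow_self s ha.1.ne')
  set z : H := ((c : ↥S) : H) with hz
  have hzo : orderOf z = s := by rw [hz, Subgroup.orderOf_coe, Subgroup.orderOf_coe, hc]
  refine Cfsg.Lib.Local.QdRankTwo.isCyclic_of_unique hs2 S hS (z := z)
    (by rw [← hzo, pow_orderOf_eq_one]) fun x hx hxs => ?_
  by_contra hxz
  have hcomm : x * z = z * x := congrArg Subtype.val (Subgroup.mem_center_iff.1 c.2 ⟨x, hx⟩)
  set A := closure ({x, z} : Set H) with hA
  haveI : IsMulCommutative ↥A := Subgroup.isMulCommutative_closure (by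
    rintro a (rfl | rfl) b (rfl | rfl) <;> first | rfl | exact hcomm | exact hcomm.symm)
  have hAS : A ≤ S := (closure_le S).2 (by rintro a (rfl | rfl); exacts [hx, (c : ↥S).2])
  have hnc : ¬ IsCyclic ↥A := by
    intro hcy
    classical
    haveI := Fintype.ofFinite ↥A
    have hzA : z ∈ A := subset_closure (by simp)
    have hxA : x ∈ A := subset_closure (by simp)
    refine hxz ?_
    have h1 := IsCyclic.card_pow_eq_one_le (α := ↥A) hs.out.pos
    let ψ : ↥(zpowers z) → {a : ↥A // a ^ s = 1} := fun v => ⟨⟨v.1, zpowers_le.2 hzA v.2⟩, Subtype.ext (by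
      show (v.1) ^ s = 1
      obtain ⟨j, hj⟩ := mem_zpowers_iff.1 v.2
      rw [← hj, ← zpow_natCast, ← zpow_mul, mul_comm, zpow_mul, zpow_natCast, ← hzo, pow_orderOf_eq_one,
        one_zpow])⟩
    have hψ : Function.Injective ψ := fun a b e => Subtype.ext (congrArg (fun t => ((t.1 : ↥A) : H)) e)
    have hbij : Function.Bijective ψ := (Nat.bijective_iff_injective_and_card ψ).2 ⟨hψ, le_antisymm
      (Nat.card_le_card_of_injective ψ hψ) (by
        rw [Nat.card_eq_fintype_card, Fintype.card_subtype, Nat.card_zpowers, hzo]; exact h1)⟩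
    obtain ⟨v, hv⟩ := hbij.2 ⟨⟨x, hxA⟩, Subtype.ext hxs⟩
    exact (congrArg (fun t => ((t.1 : ↥A) : H)) hv : (v : H) = x) ▸ v.2
  have hAN : A ≤ N := hAS.trans hSN
  have hcop : (Nat.card A).Coprime (Nat.card V) := by
    obtain ⟨a, ha⟩ := IsPGroup.iff_card.1 (hS.to_le hAS)
    obtain ⟨b, hb⟩ := IsPGroup.iff_card.1 L.pV
    rw [ha, hb]
    exact Nat.Coprime.pow _ _ ((Nat.coprime_primes hs.out hp.out).2 hsp)
  have hgen := Cfsg.Lib.Coprime.le_iSup_centralizer_of_not_isCyclic hnc (G := V) (fun a ha =>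
    mem_normalizer_iff.2 fun w => ⟨fun hw => L.conj_mem a (hAN ha) w hw, fun hw => by
      have := L.conj_mem a⁻¹ (inv_mem (hAN ha)) _ hw
      simpa [mul_assoc] using this⟩) hcop
  obtain ⟨v0, hv0, hv01⟩ := L.hne
  have hbot : (⨆ a : {a : H // a ∈ A ∧ a ≠ 1}, V ⊓ centralizer ({(a : H)} : Set H)) = ⊥ := by
    refine iSup_eq_bot.2 fun ⟨a, ha, ha1⟩ => (eq_bot_iff_forall _).2 fun v ⟨hv, hvc⟩ => ?_
    by_contra hv1
    have hS' : ¬ p ∣ Nat.card S := fun h => by
      obtain ⟨b, hb⟩ := IsPGroup.iff_card.1 hS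
      exact hsp ((Nat.prime_dvd_prime_iff_eq hp.out hs.out).1 (hp.out.dvd_of_dvd_pow (hb ▸ h))).symm
    refine ha1 (L.eq_one_of_isR hS' (hAS ha) (L.cenV v hv hv1 a ?_))
    replace hvc : v ∈ centralizer ({a} : Set H) := hvc
    rw [mem_centralizer_singleton_iff] at hvc ⊢
    exact hvc.symm
  exact hv01 (by simpa [hbot] using hgen hv0)

/-- The `p`-elements of `N` are closed under products. -/
theorem pclosed : ∀ K : Subgroup H, K ≤ N → ∀ x ∈ K, ∀ y ∈ K, IsR p x → IsR p y → IsR p (x * y) := by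
  intro K
  induction K using WellFoundedLT.induction with
  | ind K ih =>
    intro hKN x hx y hy hxr hyr
    by_cases hall : IsPGroup p K
    · exact isR_of_mem hall (mul_mem hx hy)
    -- the least prime other than `p`
    have hex : ∃ s, s.Prime ∧ s ∣ Nat.card K ∧ s ≠ p := by
      by_contra hcon
      push Not at hcon
      exact hall (IsPGroup.of_card
        (Nat.eq_prime_pow_of_unique_prime_dvd Nat.card_pos.ne' fun {d} hd hdd => hcon d hd hdd))
    classical
    obtain ⟨hs, hsK, hsp⟩ := Nat.find_spec hex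
    set s := Nat.find hex with hsdef
    haveI := Fact.mk hs
    obtain ⟨S⟩ : Nonempty (Sylow s ↥K) := inferInstance
    have hSN : (S : Subgroup ↥K).map K.subtype ≤ N := (map_subtype_le _).trans hKN
    haveI hScyc : IsCyclic ↥(S : Subgroup ↥K) :=
      (MulEquiv.isCyclic ((S : Subgroup ↥K).equivMapOfInjective K.subtype K.subtype_injective)).2
        (L.cyclic_sylow hsp hSN (S.isPGroup'.map _))
    have hSne : (S : Subgroup ↥K) ≠ ⊥ := S.ne_bot_of_dvd_card hsK
    set M := normalizer ((S : Subgroup ↥K) : Set ↥K) with hM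
    have hpM : ¬ p ∣ Nat.card M := fun hd => by
      obtain ⟨m, hm⟩ := exists_prime_orderOf_dvd_card' (G := ↥M) p hd
      have hmo : orderOf ((m : ↥K) : H) = p := by rw [Subgroup.orderOf_coe, Subgroup.orderOf_coe, hm]
      refine L.norm_lemma hSN ?_ ?_ (hKN (m : ↥K).2)
        (fun e => hp.out.one_lt.ne (by rw [← hmo, e, orderOf_one])) (isR_of_orderOf (a := 1) (by rw [hmo, pow_one]))
        ?_
      · intro h
        obtain ⟨b, hb⟩ := IsPGroup.iff_card.1 (S.isPGroup'.map K.subtype)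
        exact hsp ((Nat.prime_dvd_prime_iff_eq hp.out hs).1 (hp.out.dvd_of_dvd_pow (hb ▸ h))).symm
      · exact fun e => hSne (by rwa [map_eq_bot_iff_of_injective _ K.subtype_injective] at e)
      · rintro _ ⟨v, hv, rfl⟩
        exact ⟨(m : ↥K) * v * (m : ↥K)⁻¹, (mem_normalizer_iff.1 m.2 v).1 hv, by simp⟩
    have hle : M ≤ centralizer ((S : Subgroup ↥K) : Set ↥K) := by
      set ψ := (S : Subgroup ↥K).normalizerMonoidHom with hψ
      have hker : ψ.ker = (centralizer ((S : Subgroup ↥K) : Set ↥K)).subgroupOf M :=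
        normalizerMonoidHom_ker _
      have h1 : ψ.ker.index = 1 := by
        by_contra hne
        obtain ⟨t, ht, htd⟩ := Nat.exists_prime_and_dvd hne
        haveI := Fact.mk ht
        have htM : t ∣ Nat.card M := htd.trans (index_dvd_card _)
        have htp : t ≠ p := fun e => hpM (e ▸ htM)
        have htK : t ∣ Nat.card K := htM.trans (card_subgroup_dvd_card M)
        have hst : s ≤ t := Nat.find_min' hex ⟨ht, htK, htp⟩
        have htne : t ≠ s := fun e => by
          subst e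
          have hSle : (S : Subgroup ↥K) ≤ M := le_normalizer
          refine S.not_dvd_index (htd.trans (dvd_trans (index_dvd_of_le ?_) (Dvd.intro _ (relIndex_mul_index hSle))))
          rw [hker]
          intro v hv
          exact mem_subgroupOf.2 (mem_centralizer_iff.2 fun a ha => congrArg Subtype.val
            ((IsCyclic.commutative (α := ↥(S : Subgroup ↥K))).is_comm.comm ⟨a, ha⟩ ⟨v.1, hv⟩))
        obtain ⟨b, hb⟩ := IsPGroup.iff_card.1 S.isPGroup'
        have h2 : t ∣ Nat.card (MulAut ↥(S : Subgroup ↥K)) :=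
          htd.trans ((index_ker ψ) ▸ card_subgroup_dvd_card ψ.range)
        rw [IsCyclic.card_mulAut, hb] at h2
        rcases b with _ | b
        · exact hSne (eq_bot_of_card_eq _ (hb.trans (pow_zero s)))
        rw [Nat.totient_prime_pow_succ hs, ht.dvd_mul] at h2
        rcases h2 with h2 | h2
        · exact htne ((Nat.prime_dvd_prime_iff_eq ht hs).1 (ht.dvd_of_dvd_pow h2))
        · have := Nat.le_of_dvd (by have := hs.two_le; omega) h2
          omega
      rw [index_eq_one, hker] at h1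
      exact subgroupOf_eq_top.1 h1
    set f := MonoidHom.transferSylow S hle with hf
    have hK := MonoidHom.ker_transferSylow_isComplement' S hle
    have hlt : f.ker.map K.subtype < K := by
      refine lt_of_le_of_ne (map_subtype_le _) fun e => hSne ?_
      have htop : f.ker = ⊤ := map_injective K.subtype_injective (e.trans (by simp [← MonoidHom.range_eq_map]))
      have hd := hK.disjoint
      rw [show (MonoidHom.transferSylow S hle).ker = ⊤ from htop] at hd
      exact top_disjoint.1 hd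
    have hmem : ∀ v : H, ∀ hv : v ∈ K, IsR p v → v ∈ f.ker.map K.subtype := by
      intro v hv hvr
      refine mem_map.2 ⟨⟨v, hv⟩, ?_, rfl⟩
      rw [MonoidHom.mem_ker]
      obtain ⟨a, ha⟩ := hvr
      obtain ⟨b, hb⟩ := IsPGroup.iff_card.1 S.isPGroup'
      refine orderOf_eq_one_iff.1 (Nat.eq_one_of_dvd_coprimes (a := p ^ a) (b := s ^ b) ?_ ?_ ?_)
      · exact Nat.Coprime.pow _ _ ((Nat.coprime_primes hp.out hs).2 hsp.symm)
      · exact orderOf_dvd_of_pow_eq_one (by
          rw [← map_pow, show (⟨v, hv⟩ : ↥K) ^ p ^ a = 1 from Subtype.ext (by simpa using ha), map_one])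
      · exact hb ▸ orderOf_dvd_natCard _
    exact ih _ hlt ((map_subtype_le _).trans hKN) x (hmem x hx hxr) y (hmem y hy hyr) hxr hyr

end Local

end Cfsg.Lib.ClassSizePSL
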