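import Cfsg.Agent.Lib.ClassSizePSL.PAbelian
import Cfsg.Agent.Lib.Small.Gap.GraphLocal
import Cfsg.Agent.Lib.Dickson.PSLTwo
import Cfsg.Agent.S0731
import Mathlib.FieldTheory.Finite.GaloisField

/-!
# Recognition of `PSL(2, q)`, `q` odd, by centralisers of `p`-elements and of one torus prime
-/

set_option autoImplicit false
set_option linter.unusedSectionVars false
set_option linter.style.haveILetI false

open Subgroup

namespace Cfsg.Lib.ClassSizePSL

universe u v

theorem iso_psl_odd {H : Type u} [Group H] [Finite H] {F : Type v} [Field F] [Fintype F] {p f a b r : ℕ}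
    [hp : Fact p.Prime] [hr : Fact r.Prime] (O : OddHyp H p f (Fintype.card F) (a * b))
    (hd : OddData (Fintype.card F) a b) (hrb : r ∣ b) (hgr : Good H r b) :
    Nonempty (H ≃* Matrix.ProjectiveSpecialLinearGroup (Fin 2) F) := by
  classical
  haveI := Fintype.ofFinite H
  set q := Fintype.card F with hqdef
  have hq7 := hd.q7
  let Ω := Sylow p H
  haveI : Fintype Ω := Fintype.ofFinite _
  obtain ⟨P⟩ : Nonempty Ω := inferInstance
  set N := normalizer ((P : Subgroup H) : Set H) with hN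
  have hZR : ∀ Q : Ω, ZR Q = (Q : Subgroup H) := fun Q =>
    inf_eq_left.2 fun x hx => mem_centralizer_iff.2 fun y hy => O.abelian Q y hy x hx
  have hcen : ∀ Q : Ω, ∀ y ∈ (Q : Subgroup H), y ≠ 1 → centralizer ({y} : Set H) = (Q : Subgroup H) :=
    fun Q y hy hy1 => O.cen_eq ((hZR Q).symm ▸ hy) hy1
  set k := (P : Subgroup H).relIndex N with hk
  obtain ⟨y0, hy0, hy01⟩ := exists_mem_ZR P O.dvd_card
  have hk2 : q - 1 = 2 * k := by
    rw [hk, ← O.two_k hy0 hy01, hZR P, O.card_sylow P]
  have hNidx : Nat.card Ω = q + 1 := by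
    rw [show Nat.card Ω = N.index from P.card_eq_index_normalizer]
    have h1 : k * N.index = a * b := by
      rw [hk, relIndex_mul_index (le_normalizer (H := (P : Subgroup H)))]
      exact cls_of_card (g := y0) (G := H) (by rw [hcen P y0 hy0.1 hy01, O.card_sylow P]) O.card ▸
        (congrArg Subgroup.index (hcen P y0 hy0.1 hy01)).symm
    have h2 := O.hsq
    have h3 : (2 * k) * N.index = (2 * k) * (q + 1) := by
      calc (2 * k) * N.index = 2 * (k * N.index) := by ring
        _ = q ^ 2 - 1 := by rw [h1]; omega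
        _ = (q + 1) * (q - 1) := by rw [← one_pow 2, Nat.sq_sub_sq, one_pow]
        _ = (2 * k) * (q + 1) := by rw [← hk2]; ring
    exact Nat.eq_of_mul_eq_mul_left (by omega) h3
  have hΩ : Fintype.card Ω = q + 1 := by rw [← Nat.card_eq_fintype_card]; exact hNidx
  have hNcard : Nat.card N = k * q := by
    rw [hk, ← O.card_sylow P, mul_comm, ← relIndex_bot_left, ← relIndex_bot_left]
    exact (relIndex_mul_relIndex _ _ _ bot_le le_normalizer).symm
  have hstab : MulAction.stabilizer H P = N :=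
    Subgroup.ext fun g => Sylow.smul_eq_iff_mem_normalizer
  have hfree : ∀ X Y : Ω, X ≠ Y → ∀ s ∈ (X : Subgroup H), s • Y = Y → s = 1 := by
    intro X Y hXY s hs hsY
    by_contra hs1
    have hsN : s ∈ normalizer ((Y : Subgroup H) : Set H) := Sylow.smul_eq_iff_mem_normalizer.1 hsY
    have hsup : IsPGroup p ((zpowers s) ⊔ (Y : Subgroup H) : Subgroup H) :=
      (X.isPGroup'.to_le (zpowers_le.2 hs)).to_sup_of_normal_right' Y.isPGroup' (zpowers_le.2 hsN)
    have hsY' : s ∈ (Y : Subgroup H) :=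
      (Y.is_maximal' hsup le_sup_right) ▸ (le_sup_left : zpowers s ≤ _) (mem_zpowers s)
    exact hXY (Sylow.ext ((hcen X s hs hs1).symm.trans (hcen Y s hsY' hs1)))
  have hsmul : ∀ X : Ω, ∀ s ∈ (X : Subgroup H), s • X = X := fun X s hs =>
    Sylow.smul_eq_iff_mem_normalizer.2 (le_normalizer hs)
  have hreg : ∀ y z : Ω, y ≠ P → z ≠ P → ∃! u : (P : Subgroup H), (u : H) • y = z := by
    intro y z hy hz
    have hne : ∀ u : (P : Subgroup H), (u : H) • y ≠ P := fun u e => hy
      (MulAction.injective (u : H) (e.trans (hsmul P u u.2).symm))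
    have hbij : Function.Bijective
        (fun u : (P : Subgroup H) => (⟨(u : H) • y, hne u⟩ : {w : Ω // w ≠ P})) := by
      rw [Fintype.bijective_iff_injective_and_card]
      refine ⟨fun u v e => ?_, ?_⟩
      · have e' : (u : H) • y = (v : H) • y := congrArg Subtype.val e
        have := hfree P y (Ne.symm hy) ((v : H)⁻¹ * u) (mul_mem (inv_mem v.2) u.2)
          (by rw [mul_smul, e', inv_smul_smul])
        exact Subtype.ext (inv_mul_eq_one.1 this).symm
      · rw [Fintype.card_subtype_compl, Fintype.card_subtype_eq, hΩ, ← Nat.card_eq_fintype_card, O.card_sylow P]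
        omega
    obtain ⟨u, hu⟩ := hbij.2 ⟨z, hz⟩
    exact ⟨u, congrArg Subtype.val hu, fun v hv => hbij.1
      (Subtype.ext (hv.trans (congrArg Subtype.val hu).symm))⟩
  have h2t : MulAction.IsMultiplyPretransitive H Ω 2 := by
    rw [MulAction.is_two_pretransitive_iff]
    intro a' b' c' d' hab hcd
    obtain ⟨g1, hg1⟩ := MulAction.exists_smul_eq H a' P
    obtain ⟨g2, hg2⟩ := MulAction.exists_smul_eq H c' P
    obtain ⟨u, hu, -⟩ := hreg (g1 • b') (g2 • d')
      (fun e => hab (MulAction.injective g1 (hg1.trans e.symm)))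
      (fun e => hcd (MulAction.injective g2 (hg2.trans e.symm)))
    exact ⟨g2⁻¹ * u * g1, by rw [mul_smul, mul_smul, hg1, hsmul P u u.2, inv_smul_eq_iff, hg2],
      by rw [mul_smul, mul_smul, hu, inv_smul_smul]⟩
  obtain ⟨Y0, hY0⟩ := Fintype.exists_ne_of_one_lt_card (by rw [hΩ]; omega) P
  have hcore : ∀ g : H, (∀ y : Ω, g • y = y) → g = 1 := by
    intro g hg0
    have hgN : g ∈ N := Sylow.smul_eq_iff_mem_normalizer.1 (hg0 P)
    have hc : g ∈ centralizer ({y0} : Set H) := by
      rw [mem_centralizer_singleton_iff]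
      refine mul_inv_eq_iff_eq_mul.1 (inv_mul_eq_one.1 (hfree P Y0 hY0.symm (y0⁻¹ * (g * y0 * g⁻¹))
        (mul_mem (inv_mem hy0.1) ((mem_normalizer_iff.1 hgN y0).1 hy0.1)) ?_)).symm
      rw [mul_smul, mul_smul, mul_smul, inv_smul_eq_iff.2 (hg0 Y0).symm, hg0 (y0 • Y0), inv_smul_smul]
    rw [hcen P y0 hy0.1 hy01] at hc
    exact hfree P Y0 hY0.symm g hc (hg0 Y0)
  have hthree : ∀ g : H, ∀ a b c : Ω, a ≠ b → b ≠ c → a ≠ c →
      g • a = a → g • b = b → g • c = c → g = 1 := by
    intro g a' b' c' hab hbc hac ga gb gc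
    obtain ⟨x, hx⟩ := MulAction.exists_smul_eq H a' P
    suffices x * g * x⁻¹ = 1 by simpa using this
    have hga : (x * g * x⁻¹) • P = P := by rw [← hx, mul_smul, mul_smul, inv_smul_smul, ga]
    have hgb : (x * g * x⁻¹) • (x • b') = x • b' := by rw [mul_smul, mul_smul, inv_smul_smul, gb]
    have hgc : (x * g * x⁻¹) • (x • c') = x • c' := by rw [mul_smul, mul_smul, inv_smul_smul, gc]
    have hb' : x • b' ≠ P := fun e => hab (MulAction.injective x (hx.trans e.symm))
    have hc' : x • c' ≠ P := fun e => hac (MulAction.injective x (hx.trans e.symm))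
    generalize x * g * x⁻¹ = m at hga hgb hgc ⊢
    have hmN : m ∈ N := Sylow.smul_eq_iff_mem_normalizer.1 hga
    obtain ⟨u, hu, huniq⟩ := hreg (x • b') (x • c') hb' hc'
    have hu1 : (u : H) ≠ 1 := fun e => hbc (MulAction.injective x (by show x • b' = x • c'; rw [← hu, e, one_smul]))
    have hmu : m * u * m⁻¹ = u := by
      have hk2 := huniq ⟨m * u * m⁻¹, (mem_normalizer_iff.1 hmN _).1 u.2⟩ (by
        show (m * u * m⁻¹) • (x • b') = x • c'
        rw [mul_smul, mul_smul, inv_smul_eq_iff.2 hgb.symm, hu, hgc])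
      exact congrArg Subtype.val hk2
    have hmP : m ∈ (P : Subgroup H) := by
      rw [← hcen P u u.2 hu1]
      exact mem_centralizer_singleton_iff.2 (mul_inv_eq_iff_eq_mul.1 hmu)
    exact hfree P _ (Ne.symm hb') m hmP hgb
  have hnontriv : ∃ g : H, g ≠ 1 ∧ ∃ a b : Ω, a ≠ b ∧ g • a = a ∧ g • b = b := by
    have hbig : ¬ Function.Injective (fun m : ↥N => (m : H) • Y0) := by
      intro hinj
      have := Nat.card_le_card_of_injective _ hinj
      rw [hNcard, hNidx] at this
      have : 2 * q ≤ k * q := Nat.mul_le_mul_right q (by omega)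
      omega
    simp only [Function.Injective, not_forall] at hbig
    obtain ⟨k1, k2, e, hne⟩ := hbig
    exact ⟨(k2 : H)⁻¹ * k1, fun h => hne (Subtype.ext (inv_mul_eq_one.1 h).symm), P, Y0, hY0.symm,
      Sylow.smul_eq_iff_mem_normalizer.2 (N.mul_mem (N.inv_mem k2.2) k1.2),
      by rw [mul_smul, e, inv_smul_smul]⟩
  have hreg' : ∀ M : Subgroup H, M.Normal → MulAction.IsPretransitive M Ω →
      ∃ a : Ω, MulAction.stabilizer M a ≠ ⊥ := by
    intro M hMn hMt
    by_contra hcon
    push Not at hcon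
    have hMfree : ∀ m ∈ M, ∀ X : Ω, m • X = X → m = 1 := fun m hm X hmX => by
      have : (⟨m, hm⟩ : M) ∈ MulAction.stabilizer M X := hmX
      rw [hcon X, mem_bot] at this
      exact congrArg Subtype.val this
    have hMcard : Nat.card M = q + 1 := by
      rw [← hNidx, ← MulAction.index_stabilizer_of_transitive M P, hcon P, index_bot]
    haveI := hMn
    haveI := Fintype.ofFinite ↥M
    have hMdvd : 2 ∣ Nat.card M := by rw [hMcard]; have := hd.q_odd; omega
    haveI : Fact (Nat.Prime 2) := ⟨Nat.prime_two⟩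
    obtain ⟨t, ht⟩ := exists_prime_orderOf_dvd_card' (G := ↥M) 2 hMdvd
    have hto : orderOf (t : H) = 2 := by rw [Subgroup.orderOf_coe, ht]
    have ht1 : (t : H) ≠ 1 := fun e => by rw [e, orderOf_one] at hto; omega
    -- `P` is transitive on the nontrivial elements
    have hall : ∀ m ∈ M, m ≠ 1 → m * m = 1 := by
      intro m hm hm1
      let φ : ↥(P : Subgroup H) → {w : ↥M // w ≠ 1} := fun s =>
        ⟨⟨(s : H) * t * (s : H)⁻¹, hMn.conj_mem _ t.2 _⟩, fun e => ht1 (conj_eq_one_iff.1 (congrArg Subtype.val e))⟩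
      have hφ : Function.Injective φ := by
        intro s s' e
        have e' : (s : H) * t * (s : H)⁻¹ = s' * t * (s' : H)⁻¹ :=
          congrArg (fun w => ((w.1 : ↥M) : H)) e
        by_contra hne
        have hu : (s' : H)⁻¹ * s ≠ 1 := fun h => hne (Subtype.ext (inv_mul_eq_one.1 h).symm)
        have htC : (t : H) ∈ centralizer ({(s' : H)⁻¹ * s} : Set H) := by
          rw [mem_centralizer_singleton_iff]
          calc (t : H) * ((s' : H)⁻¹ * s) = (s' : H)⁻¹ * (s' * t * (s' : H)⁻¹) * s := by group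
            _ = (s' : H)⁻¹ * s * t := by rw [← e']; group
        rw [hcen P _ (mul_mem (inv_mem s'.2) s.2) hu] at htC
        exact ht1 (hMfree t t.2 P (hsmul P t htC))
      have hbij := (Nat.bijective_iff_injective_and_card φ).2 ⟨hφ, by
        rw [O.card_sylow P, Nat.card_eq_fintype_card (α := {w : ↥M // w ≠ 1}), Fintype.card_subtype_compl,
          Fintype.card_subtype_eq, ← Nat.card_eq_fintype_card, hMcard]
        omega⟩
      obtain ⟨s, hs⟩ := hbij.2 ⟨⟨m, hm⟩, fun e => hm1 (congrArg Subtype.val e)⟩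
      have hs' : (s : H) * t * (s : H)⁻¹ = m := congrArg (fun w => ((w.1 : ↥M) : H)) hs
      have htt : (t : H) * t = 1 := by rw [← sq]; exact orderOf_dvd_iff_pow_eq_one.1 (dvd_of_eq hto)
      rw [← hs']
      calc (s : H) * t * (s : H)⁻¹ * (s * t * (s : H)⁻¹) = s * (t * t) * (s : H)⁻¹ := by group
        _ = 1 := by rw [htt]; group
    have hM2 : IsPGroup 2 ↥M := fun m => ⟨1, Subtype.ext (by
      by_cases hm : (m : H) = 1
      · simp [hm]
      · simpa [sq] using hall m m.2 hm)⟩
    obtain ⟨e, he⟩ := IsPGroup.iff_card.1 hM2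
    rw [hMcard] at he
    have he4 : (q + 1) % 4 = 0 := by
      rcases e with _ | _ | e
      · rw [pow_zero] at he; omega
      · rw [zero_add, pow_one] at he; omega
      · rw [he, show (2 : ℕ) ^ (e + 1 + 1) = 4 * 2 ^ e by ring]; omega
    have hb := hd.b_odd
    obtain ⟨-, hqb⟩ : a = q + 1 ∧ 2 * b + 1 = q := by
      rcases hd.sum with h | ⟨e1, e2⟩
      · exact h
      · omega
    -- an element of order `r`
    obtain ⟨d, hdo⟩ := exists_prime_orderOf_dvd_card' (G := H) r
      (hrb.trans ((dvd_mul_left b a).trans (O.card ▸ dvd_mul_left (a * b) q)))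
    have hfix := Cfsg.Lib.Small.Gap.card_fixed_modEq (g := d) (r := r)
      (orderOf_dvd_iff_pow_eq_one.1 (dvd_of_eq hdo)) (L := M)
      (by rw [normalizer_eq_top]; trivial)
    have hr2 : r ≠ 2 := fun e => by have := e ▸ hrb; omega
    have hr3 : 3 ≤ r := by have := hr.out.two_le; omega
    rw [hMcard] at hfix
    have hq2 : q + 1 ≡ 2 [MOD r] := by
      refine ((Nat.modEq_iff_dvd' (by omega)).2 ?_).symm
      rw [show q + 1 - 2 = 2 * b by omega]
      exact hrb.mul_left 2
    have hne : (M ⊓ centralizer ({d} : Set H)) ≠ ⊥ := fun e => by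
      rw [e, Subgroup.card_bot] at hfix
      have h12 : 1 % r = 2 % r := hfix.trans hq2
      rw [Nat.mod_eq_of_lt (by omega), Nat.mod_eq_of_lt (by omega)] at h12
      omega
    obtain ⟨m, ⟨hmM, hmd⟩, hm1⟩ := (bot_or_exists_ne_one _).resolve_left hne
    have hd1 : d ≠ 1 := fun e => by rw [e, orderOf_one] at hdo; omega
    have hcard := hgr.card_cen d hd1 ⟨1, by rw [pow_one]; exact orderOf_dvd_iff_pow_eq_one.1 (dvd_of_eq hdo)⟩
    have hmo : orderOf m = 2 := orderOf_eq_prime (by rw [sq]; exact hall m hmM hm1) hm1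
    have h2b := Subgroup.orderOf_dvd_natCard (centralizer ({d} : Set H)) hmd
    rw [hmo, hcard] at h2b
    omega
  have hZ : Cfsg.IsZassenhausGroup H Ω :=
    ⟨⟨fun {g g'} hgg => by
      have := hcore (g'⁻¹ * g) fun y => by rw [mul_smul, hgg, inv_smul_smul]
      exact (inv_mul_eq_one.1 this).symm⟩, h2t, hthree, hnontriv, hreg'⟩
  rcases Cfsg.Agent.S0731.result hZ P (P : Subgroup H) (hstab.symm ▸ le_normalizer)
      (by rw [hstab]; exact normal_in_normalizer)
      ⟨⟨fun x y => Subtype.ext (O.abelian P x x.2 y y.2)⟩⟩ hreg with ⟨h3, hbot⟩ | ⟨K, hK1, hK2, hK, ⟨e⟩⟩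
  · exfalso
    haveI := h3
    haveI : Nonempty (Fin 3 ↪ Ω) := Function.Embedding.nonempty_of_card_le
      (by rw [Fintype.card_fin, hΩ]; omega)
    obtain ⟨t0⟩ := (inferInstance : Nonempty (Fin 3 ↪ Ω))
    have hcard : Nat.card (Fin 3 ↪ Ω) = Nat.card H := by
      rw [← MulAction.index_stabilizer_of_transitive H t0, hbot t0, index_bot]
    rw [Nat.card_eq_fintype_card (α := Fin 3 ↪ Ω), Fintype.card_embedding_eq, hΩ, Fintype.card_fin,
      O.card] at hcard
    simp only [Nat.descFactorial_succ, Nat.descFactorial_zero, mul_one, Nat.sub_zero,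
      Nat.add_sub_cancel] at hcard
    rw [show q + 1 - 2 = q - 1 by omega] at hcard
    have h1 : (q - 1) * (q + 1) = a * b := Nat.eq_of_mul_eq_mul_left (show 0 < q by omega)
      (Eq.trans (by ring) hcard)
    have h2 : (q - 1) * (q + 1) = q ^ 2 - 1 := by rw [mul_comm, ← Nat.sq_sub_sq, one_pow]
    have h3 := O.hsq
    have h4 : 49 ≤ q ^ 2 := by nlinarith
    omega
  · have hodd := Nat.odd_iff.1 (Nat.odd_iff.2 (FiniteField.odd_card_of_char_ne_two hK))
    have h2K : 2 ≤ Fintype.card K := Fintype.one_lt_card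
    have hcK := Cfsg.Lib.Linear.Two.card_PSL_two (F := K)
    rw [← Nat.card_congr e.toEquiv, O.card, Nat.gcd_eq_left (show 2 ∣ Fintype.card K - 1 by omega)] at hcK
    have hqK : q = Fintype.card K := by
      have h3 := O.hsq
      have h4 : q * (q ^ 2 - 1) = Fintype.card K * (Fintype.card K ^ 2 - 1) := by
        rw [← hcK, show q ^ 2 - 1 = 2 * (a * b) by omega]; ring
      set Q := Fintype.card K
      rcases lt_trichotomy q Q with hlt | heq | hgt
      · exfalso
        have : q ^ 2 - 1 ≤ Q ^ 2 - 1 := Nat.sub_le_sub_right (Nat.pow_le_pow_left hlt.le 2) 1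
        have hpos : 0 < q ^ 2 - 1 := by
          have : 49 ≤ q ^ 2 := by nlinarith
          omega
        exact (Nat.mul_lt_mul_of_lt_of_le hlt this (lt_of_lt_of_le hpos this)).ne h4
      · exact heq
      · exfalso
        have : Q ^ 2 - 1 ≤ q ^ 2 - 1 := Nat.sub_le_sub_right (Nat.pow_le_pow_left hgt.le 2) 1
        have hpos : 0 < q ^ 2 - 1 := by
          have : 49 ≤ q ^ 2 := by nlinarith
          omega
        exact (Nat.mul_lt_mul_of_lt_of_le hgt this hpos).ne' h4
    exact ⟨e.trans (Cfsg.Lib.Dickson.pslEquiv (FiniteField.ringEquivOfCardEq hqK.symm))⟩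

end Cfsg.Lib.ClassSizePSL
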