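import Cfsg.Agent.Lib.ClassSizePSL.Odd

/-!
# The class sizes of `PSL(2, q)`, `q` odd, determine the central quotient
-/

set_option autoImplicit false
set_option linter.unusedSectionVars false
set_option linter.style.haveILetI false

open Subgroup

namespace Cfsg.Lib.ClassSizePSL

universe u v

variable {G : Type u} [Group G] [Finite G]

theorem exists_isR_of_dvd_modZ {x : G} {s : ℕ} [Fact s.Prime] (h : s ∣ modZ x) :
    ∃ u, IsR s u ∧ u ∈ centralizer ({x} : Set G) ∧ u ∉ center G := by
  by_contra hcon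
  push Not at hcon
  exact not_dvd_modZ hcon h

theorem MinMax.dvd_sizes {i r : ℕ} (h : MinMax G i r) [hr : Fact r.Prime] {x : G} (hx : cls x = i) {s : ℕ}
    (hs : s.Prime) (hd : s ∣ modZ x) :
    s = r ∨ ∀ w : G, cls w ≠ 1 → cls w ≠ i → s ∣ cls w := by
  haveI := Fact.mk hs
  by_cases hsr : s = r
  · exact Or.inl hsr
  · obtain ⟨u, hu, huC, hun⟩ := exists_isR_of_dvd_modZ hd
    exact Or.inr fun w hw hwi =>
      h.dvd_other hx hsr hu huC hun (fun hc => hw (cls_eq_one_iff.2 hc)) hwi

section odd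

variable {q a b p f : ℕ} [hp : Fact p.Prime] (hd : OddData q a b) (hq : q = p ^ f) (hf : f ≠ 0)
  (hS : Set.range (fun g : G => cls g) = {1, a * b, q * a, 2 * (q * b), q * b})
include hd hq hf hS

theorem exists_cls {i : ℕ} (hi : i ∈ ({1, a * b, q * a, 2 * (q * b), q * b} : Set ℕ)) : ∃ x : G, cls x = i := by
  rw [← hS] at hi; exact hi

theorem cls_cases (y : G) : cls y = 1 ∨ cls y = a * b ∨ cls y = q * a ∨ cls y = 2 * (q * b) ∨ cls y = q * b := by
  have : cls y ∈ Set.range (fun g : G => cls g) := ⟨y, rfl⟩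
  rw [hS] at this
  simpa using this

theorem p_dvd_q : p ∣ q := hq ▸ dvd_pow_self p hf

theorem not_p_dvd : ¬ p ∣ a * b := fun h => hp.out.ne_one
  (Nat.eq_one_of_dvd_coprimes (hd.coprime_qa.mul_right hd.coprime_qb) (p_dvd_q hd hq hf hS) h)

theorem not_p_dvd_two : ¬ p ∣ 2 := fun h => by
  have h1 := hd.q_odd
  have h2 := p_dvd_q hd hq hf hS
  rw [(Nat.prime_dvd_prime_iff_eq hp.out Nat.prime_two).1 h] at h2
  omega

theorem minMax_U : MinMax G (a * b) p := by
  have hq7 := hd.q7
  have ha8 := hd.a8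
  have hb3 := hd.b3
  have hcop := hd.coprime_qa.mul_right hd.coprime_qb
  refine ⟨?_, fun y hy => ?_, fun y hy => ?_, not_p_dvd hd hq hf hS, ?_⟩
  · intro e; have := Nat.eq_one_of_mul_eq_one_right e; omega
  · rcases cls_cases hd hq hf hS y with e | e | e | e | e
    · exact Or.inl e
    · exact Or.inr e
    all_goals
      exfalso
      rw [e] at hy
      have hqd : q ∣ a * b :=
        (by first | exact dvd_mul_right q _ | exact dvd_mul_of_dvd_right (dvd_mul_right q b) 2 : q ∣ _).trans hy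
      have := Nat.eq_one_of_dvd_coprimes hcop dvd_rfl hqd
      omega
  · rcases cls_cases hd hq hf hS y with e | e | e | e | e
    · rw [e] at hy; have := Nat.eq_one_of_mul_eq_one_right (Nat.dvd_one.1 hy); omega
    · exact e
    · exfalso
      rw [e] at hy
      have h1 : b ∣ q := hd.coprime_ab.symm.dvd_of_dvd_mul_right ((dvd_mul_left b a).trans hy)
      have := Nat.eq_one_of_dvd_coprimes hd.coprime_qb h1 dvd_rfl
      omega
    all_goals
      exfalso
      rw [e] at hy
      have h1 : a ∣ 2 * q := hd.coprime_ab.dvd_of_dvd_mul_right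
        ((dvd_mul_right a b).trans (hy.trans (by first | exact dvd_of_eq (by ring1) | exact Dvd.intro_left 2 (by ring1))))
      have := Nat.le_of_dvd two_pos (hd.coprime_qa.symm.dvd_of_dvd_mul_right h1)
      omega
  · obtain ⟨y, hy⟩ := exists_cls hd hq hf hS (i := q * b) (by simp)
    exact ⟨y, hy ▸ (p_dvd_q hd hq hf hS).mul_right b⟩

theorem minMax_B {r : ℕ} [hr : Fact r.Prime] (hrb : r ∣ b) : MinMax G (q * a) r := by
  have hq7 := hd.q7
  have ha8 := hd.a8
  have hb3 := hd.b3
  have hrq : ¬ r ∣ q := fun h => hr.out.ne_one (Nat.eq_one_of_dvd_coprimes hd.coprime_qb h hrb)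
  have hra : ¬ r ∣ a := fun h => hr.out.ne_one (Nat.eq_one_of_dvd_coprimes hd.coprime_ab h hrb)
  refine ⟨?_, fun y hy => ?_, fun y hy => ?_, ?_, ?_⟩
  · intro e; have := Nat.eq_one_of_mul_eq_one_right e; omega
  · rcases cls_cases hd hq hf hS y with e | e | e | e | e
    · exact Or.inl e
    rotate_left
    · exact Or.inr e
    all_goals
      exfalso
      rw [e] at hy
      have h1 : b ∣ q * a :=
        (by first | exact dvd_mul_left b _ | exact dvd_mul_of_dvd_right (dvd_mul_left b q) 2 : b ∣ _).trans hy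
      have := Nat.eq_one_of_dvd_coprimes hd.coprime_ab (hd.coprime_qb.symm.dvd_of_dvd_mul_left h1) dvd_rfl
      omega
  · rcases cls_cases hd hq hf hS y with e | e | e | e | e
    · rw [e] at hy; have := Nat.eq_one_of_mul_eq_one_right (Nat.dvd_one.1 hy); omega
    · exfalso
      rw [e] at hy
      have := Nat.eq_one_of_dvd_coprimes (hd.coprime_qa.mul_right hd.coprime_qb) dvd_rfl
        ((dvd_mul_right q a).trans hy)
      omega
    · exact e
    all_goals
      exfalso
      rw [e] at hy
      have h1 : a ∣ 2 * b := hd.coprime_qa.symm.dvd_of_dvd_mul_left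
        ((dvd_mul_left a q).trans (hy.trans (by first | exact dvd_of_eq (by ring1) | exact Dvd.intro_left 2 (by ring1))))
      have := Nat.le_of_dvd two_pos (hd.coprime_ab.dvd_of_dvd_mul_right h1)
      omega
  · rw [hr.out.dvd_mul]; exact not_or.2 ⟨hrq, hra⟩
  · obtain ⟨y, hy⟩ := exists_cls hd hq hf hS (i := q * b) (by simp)
    exact ⟨y, hy ▸ hrb.mul_left q⟩

/-- The order of the central quotient. -/
theorem index_center : (center G).index = q * (a * b) := by
  obtain ⟨r, hr, hrb⟩ := Nat.exists_prime_and_dvd (n := b) (by have := hd.b3; omega)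
  haveI := Fact.mk hr
  have hM := minMax_U hd hq hf hS
  have hM' := minMax_B hd hq hf hS hrb
  obtain ⟨x, hx⟩ := exists_cls hd hq hf hS (i := a * b) (by simp)
  obtain ⟨x', hx'⟩ := exists_cls hd hq hf hS (i := q * a) (by simp)
  obtain ⟨w, hw⟩ := exists_cls hd hq hf hS (i := q * b) (by simp)
  have hq7 := hd.q7
  have ha8 := hd.a8
  have hb3 := hd.b3
  have hw1 : cls w ≠ 1 := fun e => by
    rw [e] at hw; have := Nat.eq_one_of_mul_eq_one_right hw.symm; omega
  have hwU : cls w ≠ a * b := fun e => by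
    rw [hw] at e
    have := Nat.eq_of_mul_eq_mul_right (by omega : 0 < b) e
    have := Nat.eq_one_of_dvd_coprimes hd.coprime_qa (dvd_refl q) (this ▸ dvd_rfl)
    omega
  have hwB : cls w ≠ q * a := fun e => by
    rw [hw] at e
    have := Nat.eq_of_mul_eq_mul_left (by omega : 0 < q) e
    have := hd.b_odd
    have := hd.a4
    omega
  have h1 : ∀ s : ℕ, s.Prime → s ∣ modZ x → s ∣ q := by
    intro s hs hsd
    rcases hM.dvd_sizes hx hs hsd with rfl | hall
    · exact p_dvd_q hd hq hf hS
    by_contra hsq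
    have hsb : s ∣ b := (hs.dvd_mul.1 (hw ▸ hall w hw1 hwU)).resolve_left hsq
    have hsa : s ∣ a := by
      refine (hs.dvd_mul.1 (hx' ▸ hall x' (fun e => hM'.ne_one (hx' ▸ e)) fun e => ?_)).resolve_left hsq
      exact absurd ((hM.max x' (dvd_of_eq e.symm))) (by
        intro e2
        rw [hx'] at e2
        rcases hM'.min x (hx.symm ▸ dvd_of_eq e2.symm) with h | h
        · exact hM.ne_one (hx ▸ h)
        · exact hM'.not_dvd ((dvd_mul_of_dvd_right hrb a).trans (dvd_of_eq (hx ▸ h))))
    exact hs.ne_one (Nat.eq_one_of_dvd_coprimes hd.coprime_ab hsa hsb)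
  have h2 : ∀ s : ℕ, s.Prime → s ∣ modZ x' → s ∣ b := by
    intro s hs hsd
    rcases hM'.dvd_sizes hx' hs hsd with rfl | hall
    · exact hrb
    by_contra hsb
    have hsq : s ∣ q := (hs.dvd_mul.1 (hw ▸ hall w hw1 hwB)).resolve_right hsb
    have hsa : s ∣ a := by
      refine (hs.dvd_mul.1 (hx ▸ hall x (fun e => hM.ne_one (hx ▸ e)) fun e => ?_)).resolve_right hsb
      exact hM'.not_dvd ((dvd_mul_of_dvd_right hrb a).trans (dvd_of_eq (hx ▸ e)))
    exact hs.ne_one (Nat.eq_one_of_dvd_coprimes hd.coprime_qa hsq hsa)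
  have e1 := modZ_mul_cls x
  have e2 := modZ_mul_cls x'
  rw [hx] at e1
  rw [hx'] at e2
  have e : modZ x * b = modZ x' * q := by
    refine Nat.eq_of_mul_eq_mul_right (by omega : 0 < a) ?_
    calc modZ x * b * a = modZ x * (a * b) := by ring
      _ = modZ x' * (q * a) := e1.trans e2.symm
      _ = modZ x' * q * a := by ring
  have hxq : modZ x = q := by
    refine Nat.dvd_antisymm ?_ ?_
    · refine (Nat.coprime_of_dvd' fun s hs hsx hsx' => ?_ : (modZ x).Coprime (modZ x')).dvd_of_dvd_mul_left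
        ⟨b, e.symm⟩
      exact dvd_of_eq (Nat.eq_one_of_dvd_coprimes hd.coprime_qb (h1 s hs hsx) (h2 s hs hsx'))
    · exact hd.coprime_qb.dvd_of_dvd_mul_right ⟨modZ x', by rw [e, mul_comm]⟩
  rw [← e1, hxq]

theorem modZ_eq {y : G} {i c : ℕ} (hy : cls y = i) (hc : q * (a * b) = c * i) (hi : i ≠ 0) : modZ y = c :=
  Nat.eq_of_mul_eq_mul_right (Nat.pos_of_ne_zero hi)
    ((hy ▸ modZ_mul_cls y : modZ y * i = (center G).index).trans ((index_center hd hq hf hS).trans hc))

theorem two_modZ {y : G} (hy : cls y = 2 * (q * b)) : 2 * modZ y = a :=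
  Nat.eq_of_mul_eq_mul_right (show 0 < q * b from Nat.mul_pos (by have := hd.q7; omega) (by have := hd.b3; omega))
    (by
      have h := modZ_mul_cls y
      rw [index_center hd hq hf hS, hy] at h
      calc 2 * modZ y * (q * b) = modZ y * (2 * (q * b)) := by ring
        _ = a * (q * b) := by rw [h]; ring)

theorem good_U : Good (G ⧸ center G) p q := by
  have hq7 := hd.q7
  have ha8 := hd.a8
  have hb3 := hd.b3
  have hpn := not_p_dvd hd hq hf hS
  refine (minMax_U hd hq hf hS).good (index_center hd hq hf hS) fun y hy hne hdvd => ?_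
  rcases cls_cases hd hq hf hS y with e | e | e | e | e
  · exact hy (cls_eq_one_iff.1 e)
  · exact hne e
  · rw [modZ_eq hd hq hf hS (c := b) e (by ring) (Nat.mul_ne_zero (by omega) (by omega))] at hdvd
    exact hpn (hdvd.mul_left a)
  · exact hpn (((hdvd.mul_left 2).trans (dvd_of_eq (two_modZ hd hq hf hS e))).mul_right b)
  · rw [modZ_eq hd hq hf hS (c := a) e (by ring) (Nat.mul_ne_zero (by omega) (by omega))] at hdvd
    exact hpn (hdvd.mul_right b)

theorem good_B {r : ℕ} [hr : Fact r.Prime] (hrb : r ∣ b) : Good (G ⧸ center G) r b := by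
  have hq7 := hd.q7
  have ha8 := hd.a8
  have hb3 := hd.b3
  refine (minMax_B hd hq hf hS hrb).good ((index_center hd hq hf hS).trans (by ring)) fun y hy hne hdvd => ?_
  rcases cls_cases hd hq hf hS y with e | e | e | e | e
  · exact hy (cls_eq_one_iff.1 e)
  · rw [modZ_eq hd hq hf hS (c := q) e (by ring) (Nat.mul_ne_zero (by omega) (by omega))] at hdvd
    exact hr.out.ne_one (Nat.eq_one_of_dvd_coprimes hd.coprime_qb hdvd hrb)
  · exact hne e
  · exact hr.out.ne_one (Nat.eq_one_of_dvd_coprimes hd.coprime_ab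
      ((hdvd.mul_left 2).trans (dvd_of_eq (two_modZ hd hq hf hS e))) hrb)
  · rw [modZ_eq hd hq hf hS (c := a) e (by ring) (Nat.mul_ne_zero (by omega) (by omega))] at hdvd
    exact hr.out.ne_one (Nat.eq_one_of_dvd_coprimes hd.coprime_ab hdvd hrb)

theorem oddHyp : OddHyp (G ⧸ center G) p f q (a * b) where
  good := good_U hd hq hf hS
  hq := hq
  hf := hf
  hp2 := fun e => not_p_dvd_two hd hq hf hS (dvd_of_eq e)
  card := by rw [← index_eq_card, index_center hd hq hf hS]
  ndvd := not_p_dvd hd hq hf hS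
  hsq := hd.sq.symm

end odd

/-- The central quotient. -/
theorem quot_iso_odd {F : Type v} [Field F] [Fintype F] {a b : ℕ} (hd : OddData (Fintype.card F) a b)
    (hS : Set.range (fun g : G => cls g) =
      {1, a * b, Fintype.card F * a, 2 * (Fintype.card F * b), Fintype.card F * b}) :
    Nonempty (G ⧸ center G ≃* Matrix.ProjectiveSpecialLinearGroup (Fin 2) F) := by
  obtain ⟨p, hpp, -, f, hf0, hf⟩ := Cfsg.Lib.Dickson.exists_char (F := F)
  haveI := Fact.mk hpp
  obtain ⟨r, hr, hrb⟩ := Nat.exists_prime_and_dvd (n := b) (by have := hd.b3; omega)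
  haveI := Fact.mk hr
  exact iso_psl_odd (oddHyp hd hf hf0.ne' hS) hd hrb (good_B hd hf hf0.ne' hS hrb)

end Cfsg.Lib.ClassSizePSL
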