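import Cfsg.Agent.Lib.ClassSizePSL.NormLemma
import Cfsg.Agent.Lib.Sig.Small

/-!
# Order `q U` with `2 U + 1 = q ^ 2`: the Sylow subgroup of order `q` is abelian
-/

set_option autoImplicit false
set_option linter.unusedSectionVars false
set_option linter.style.haveILetI false

open Subgroup

namespace Cfsg.Lib.ClassSizePSL

universe u

variable {H : Type u} [Group H] [Finite H] {p f q U : ℕ} [hp : Fact p.Prime]

/-- The hypothesis. -/
structure OddHyp (H : Type u) [Group H] (p f q U : ℕ) : Prop where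
  good : Good H p q
  hq : q = p ^ f
  hf : f ≠ 0
  hp2 : p ≠ 2
  card : Nat.card H = q * U
  ndvd : ¬ p ∣ U
  hsq : 2 * U + 1 = q ^ 2

namespace OddHyp

variable (O : OddHyp H p f q U)
include O

theorem card_sylow (P : Sylow p H) : Nat.card (P : Subgroup H) = q := by
  have hU : U ≠ 0 := fun e => O.ndvd (e ▸ dvd_zero p)
  rw [P.card_eq_multiplicity, O.card, O.hq,
    Nat.factorization_mul (pow_ne_zero _ hp.out.ne_zero) hU, Finsupp.add_apply,
    Nat.Prime.factorization_pow hp.out, Finsupp.single_eq_same, Nat.factorization_eq_zero_of_not_dvd O.ndvd,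
    Nat.add_zero]

theorem cen_eq {P : Sylow p H} {y : H} (hy : y ∈ ZR P) (hy1 : y ≠ 1) :
    centralizer ({y} : Set H) = (P : Subgroup H) :=
  (eq_of_le_of_card_ge (le_cen_of_mem_ZR hy) (le_of_eq (by
    rw [O.good.card_cen y hy1 (isR_of_mem P.isPGroup' hy.1), O.card_sylow P]))).symm

theorem exists_sylow {y : H} (hy1 : y ≠ 1) (hy : IsR p y) :
    ∃ P : Sylow p H, centralizer ({y} : Set H) = (P : Subgroup H) ∧ y ∈ ZR P := by
  obtain ⟨P, -, hP⟩ := exists_sylow_ZR O.good O.card O.ndvd hy1 hy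
  exact ⟨P, O.cen_eq hP hy1, hP⟩

theorem cen_isR {y : H} (hy1 : y ≠ 1) (hy : IsR p y) {h : H} (hh : h ∈ centralizer ({y} : Set H)) : IsR p h := by
  obtain ⟨P, hP, -⟩ := O.exists_sylow hy1 hy
  exact isR_of_mem P.isPGroup' (hP ▸ hh)

theorem dvd_card : p ∣ Nat.card H := O.card ▸ O.hq ▸ (dvd_pow_self p O.hf).mul_right U

/-- The number of nontrivial central elements is twice the index in the normaliser. -/
theorem two_k {P : Sylow p H} {y : H} (hy : y ∈ ZR P) (hy1 : y ≠ 1) :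
    Nat.card (ZR P) - 1 = 2 * (P : Subgroup H).relIndex (normalizer ((P : Subgroup H) : Set H)) := by
  obtain ⟨-, hz1, hzd, hkz, hdvd⟩ := count O.good O.card O.ndvd P hy hy1
  rw [O.card_sylow P] at hzd hdvd
  rw [O.cen_eq hy hy1] at hkz hdvd
  set k := (P : Subgroup H).relIndex (normalizer ((P : Subgroup H) : Set H)) with hk
  set z := Nat.card (ZR P) with hz
  obtain ⟨m, hm⟩ := hkz
  have hzq : z ≤ q := Nat.le_of_dvd (O.hq ▸ Nat.pow_pos hp.out.pos) hzd
  have hpk : ¬ p ∣ k := by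
    intro h
    refine P.not_dvd_index (h.trans (Dvd.intro _ (relIndex_mul_index le_normalizer)))
  have hk0 : k ≠ 0 := fun e => hpk (e ▸ dvd_zero p)
  have hcop : Nat.Coprime q k := by
    rw [O.hq]; exact ((hp.out.coprime_iff_not_dvd).2 hpk).pow_left f
  have h3 : (q : ℤ) ∣ ((2 : ℤ) - m) * k := by
    have h1 : (q : ℤ) ∣ ((U * (z - 1) + k : ℕ) : ℤ) := Int.natCast_dvd_natCast.2 hdvd
    rw [hm] at h1
    push_cast at h1
    have hsq : (2 * (U : ℤ) + 1) = (q : ℤ) * q := by exact_mod_cast (by rw [O.hsq, sq] : 2 * U + 1 = q * q)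
    have e : ((2 : ℤ) - m) * k = 2 * ((U : ℤ) * (k * m) + k) - (q : ℤ) * q * (k * m) := by
      rw [← hsq]; ring
    rw [e]
    exact dvd_sub (h1.mul_left 2) (Dvd.dvd.mul_right (Dvd.intro _ rfl) _)
  have h4 : (q : ℤ) ∣ (2 : ℤ) - m :=
    (Int.isCoprime_iff_nat_coprime.2 (by simpa using hcop)).dvd_of_dvd_mul_right h3
  have hmz : m ≤ z - 1 := hm ▸ Nat.le_mul_of_pos_left m (Nat.pos_of_ne_zero hk0)
  have hm0 : m ≠ 0 := fun e => by rw [e, mul_zero] at hm; omega
  have hm2 : m = 2 := by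
    by_contra hne
    have h5 := Int.le_of_dvd (a := (q : ℤ)) (b := |(2 : ℤ) - m|) (abs_pos.2 (by omega)) ((dvd_abs _ _).2 h4)
    rcases abs_cases ((2 : ℤ) - m) with ⟨e, -⟩ | ⟨e, -⟩ <;> rw [e] at h5
    · have h6 : 2 ≤ q := O.hq ▸ (hp.out.two_le.trans (Nat.le_self_pow O.hf p))
      omega
    · omega
  rw [hm, hm2, mul_comm]

theorem abelian_of_even {P : Sylow p H}
    (hk : 2 ∣ (P : Subgroup H).relIndex (normalizer ((P : Subgroup H) : Set H))) :
    ∀ a ∈ (P : Subgroup H), ∀ b ∈ (P : Subgroup H), a * b = b * a := by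
  set N := normalizer ((P : Subgroup H) : Set H) with hN
  haveI : Fact (Nat.Prime 2) := ⟨Nat.prime_two⟩
  obtain ⟨t, ht⟩ := exists_prime_orderOf_dvd_card' (G := ↥N) 2 (hk.trans (relIndex_dvd_card _ _))
  have hto : orderOf (t : H) = 2 := by rw [Subgroup.orderOf_coe, ht]
  have htt : (t : H) * t = 1 := by rw [← sq]; exact orderOf_dvd_iff_pow_eq_one.1 (dvd_of_eq hto)
  have hinv : ∀ a ∈ (P : Subgroup H), (t : H) * a * (t : H)⁻¹ = a⁻¹ := by
    refine fun a ha => Cfsg.Lib.Sig.conj_eq_inv_of_fixedPointFree htt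
      (fun n hn => (mem_normalizer_iff.1 t.2 n).1 hn) ((eq_bot_iff_forall _).2 fun v ⟨hv, hvc⟩ => ?_) ha
    by_contra hv1
    replace hvc : v ∈ centralizer ({(t : H)} : Set H) := hvc
    have htv : (t : H) ∈ centralizer ({v} : Set H) := by
      rw [mem_centralizer_singleton_iff] at hvc ⊢
      exact hvc.symm
    obtain ⟨a, ha⟩ := (O.cen_isR hv1 (isR_of_mem P.isPGroup' hv) htv).orderOf
    exact O.hp2 ((Nat.prime_dvd_prime_iff_eq Nat.prime_two hp.out).1
      (Nat.prime_two.dvd_of_dvd_pow (dvd_of_eq (hto ▸ ha)))).symm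
  intro a ha b hb
  have h1 := hinv _ (mul_mem ha hb)
  rw [show (t : H) * (a * b) * (t : H)⁻¹ = (t * a * (t : H)⁻¹) * (t * b * (t : H)⁻¹) by group,
    hinv a ha, hinv b hb] at h1
  simpa [mul_inv_rev] using (congrArg (·⁻¹) h1).symm

/-- The main result. -/
theorem abelian (P : Sylow p H) : ∀ a ∈ (P : Subgroup H), ∀ b ∈ (P : Subgroup H), a * b = b * a := by
  by_contra hna
  -- no Sylow subgroup is abelian
  have hall : ∀ Q : Sylow p H, ¬ ∀ a ∈ (Q : Subgroup H), ∀ b ∈ (Q : Subgroup H), a * b = b * a := by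
    intro Q hQ
    obtain ⟨h, rfl⟩ := MulAction.exists_smul_eq H Q P
    refine hna ?_
    rw [Sylow.coe_subgroup_smul]
    rintro _ ⟨a, ha, rfl⟩ _ ⟨b, hb, rfl⟩
    simp only [MulDistribMulAction.toMonoidEnd_apply, MulDistribMulAction.toMonoidHom_apply, MulAut.smul_def,
      MulAut.conj_apply]
    calc h * a * h⁻¹ * (h * b * h⁻¹) = h * (a * b) * h⁻¹ := by group
      _ = h * b * h⁻¹ * (h * a * h⁻¹) := by rw [hQ a ha b hb]; group
  have hodd : ∀ Q : Sylow p H, ¬ 2 ∣ (Q : Subgroup H).relIndex (normalizer ((Q : Subgroup H) : Set H)) :=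
    fun Q h2 => hall Q (O.abelian_of_even h2)
  -- no nontrivial `p`-element is real
  have hreal : ∀ v : H, v ≠ 1 → IsR p v → ∀ h : H, h * v * h⁻¹ ≠ v⁻¹ := by
    intro v hv1 hvr h he
    obtain ⟨Q, hQ, hvQ⟩ := O.exists_sylow hv1 hvr
    set N := normalizer ((Q : Subgroup H) : Set H) with hN
    have hhC : ∀ c ∈ centralizer ({v} : Set H), h * c * h⁻¹ ∈ centralizer ({v} : Set H) := by
      intro c hc
      rw [mem_centralizer_singleton_iff] at hc ⊢
      have h2 : h * v⁻¹ * h⁻¹ = v := by rw [← conj_inv, he, inv_inv]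
      calc h * c * h⁻¹ * v = h * c * h⁻¹ * (h * v⁻¹ * h⁻¹) := by rw [h2]
        _ = h * (c * v⁻¹) * h⁻¹ := by group
        _ = h * (v⁻¹ * c) * h⁻¹ := by rw [(Commute.inv_right (show Commute c v from hc)).eq]
        _ = h * v⁻¹ * h⁻¹ * (h * c * h⁻¹) := by group
        _ = v * (h * c * h⁻¹) := by rw [h2]
    have hh2 : h * h ∈ centralizer ({v} : Set H) := by
      rw [mem_centralizer_singleton_iff]
      refine mul_inv_eq_iff_eq_mul.1 ?_
      rw [show h * h * v * (h * h)⁻¹ = h * (h * v * h⁻¹) * h⁻¹ by group, he, ← conj_inv, he, inv_inv]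
    rw [hQ] at hhC hh2
    have hhN : h ∈ N := Subgroup.mem_normalizer_fintype hhC
    haveI : ((Q : Subgroup H).subgroupOf N).Normal := normal_in_normalizer
    let hb : ↥N ⧸ (Q : Subgroup H).subgroupOf N := QuotientGroup.mk ⟨h, hhN⟩
    have h2 : orderOf hb ∣ 2 := orderOf_dvd_of_pow_eq_one (by
      rw [← QuotientGroup.mk_pow, QuotientGroup.eq_one_iff, mem_subgroupOf, sq]; exact hh2)
    have hk : orderOf hb ∣ (Q : Subgroup H).relIndex N := orderOf_dvd_natCard hb
    have h1 := Nat.eq_one_of_dvd_coprimes (Nat.prime_two.coprime_iff_not_dvd.2 (hodd Q)) h2 hk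
    have hhQ : h ∈ centralizer ({v} : Set H) :=
      hQ ▸ mem_subgroupOf.1 ((QuotientGroup.eq_one_iff _).1 (orderOf_eq_one_iff.1 h1))
    rw [mem_centralizer_singleton_iff] at hhQ
    rw [hhQ, mul_inv_cancel_right] at he
    obtain ⟨a, ha⟩ := hvr.orderOf
    have hdv : orderOf v ∣ 2 := orderOf_dvd_of_pow_eq_one (by rw [sq]; nth_rw 1 [he]; rw [inv_mul_cancel])
    rcases (Nat.dvd_prime Nat.prime_two).1 hdv with e | e
    · exact hv1 (orderOf_eq_one_iff.1 e)
    · exact O.hp2 ((Nat.prime_dvd_prime_iff_eq Nat.prime_two hp.out).1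
        (Nat.prime_two.dvd_of_dvd_pow (dvd_of_eq (e ▸ ha)))).symm
  -- exponent `p`
  have hexp : ∀ v : H, IsR p v → v ^ p = 1 := by
    intro v hvr
    by_cases hv1 : v = 1
    · rw [hv1, one_pow]
    obtain ⟨Q, hQ, hvQ⟩ := O.exists_sylow hv1 hvr
    obtain ⟨c, hc⟩ := exists_prime_orderOf_dvd_card' (G := ↥(ZR Q)) p (by
      have h1 : 1 < Nat.card (ZR Q) := (count O.good O.card O.ndvd Q hvQ hv1).2.1
      obtain ⟨a, ha⟩ := IsPGroup.iff_card.1 (Q.isPGroup'.to_le (show ZR Q ≤ (Q : Subgroup H) from inf_le_left))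
      rw [ha] at h1 ⊢
      exact dvd_pow_self p (fun e => by rw [e, pow_zero] at h1; omega))
    have hco : orderOf (c : H) = p := by rw [Subgroup.orderOf_coe, hc]
    have hc1 : (c : H) ≠ 1 := fun e => hp.out.one_lt.ne (by rw [← hco, e, orderOf_one])
    have hci : (c : H)⁻¹ ∉ orb Q (c : H) := fun ⟨n, _, e⟩ =>
      hreal c hc1 (isR_of_mem Q.isPGroup' c.2.1) n e
    have hci1 : (c : H)⁻¹ ≠ 1 := inv_ne_one.2 hc1
    have hcard : ({w | w ∈ ZR Q ∧ w ≠ 1} : Set H).ncard =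
        (orb Q (c : H) ∪ orb Q (c : H)⁻¹).ncard := by
      classical
      haveI := Fintype.ofFinite H
      rw [Set.ncard_union_eq ?_ (Set.toFinite _) (Set.toFinite _), ncard_orb O.good c.2 hc1,
        ncard_orb O.good (inv_mem c.2) hci1, O.cen_eq c.2 hc1, O.cen_eq (inv_mem c.2) hci1, ← two_mul,
        ← O.two_k c.2 hc1]
      · rw [← Nat.card_coe_set_eq]
        show Nat.card {w // w ∈ ZR Q ∧ w ≠ 1} = _
        rw [Nat.card_eq_fintype_card, Fintype.card_subtype, ← Finset.filter_filter, Finset.filter_ne',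
          Finset.card_erase_of_mem (by simp [Subgroup.one_mem]), ← Fintype.card_subtype,
          ← Nat.card_eq_fintype_card]
      · rw [Set.disjoint_left]
        intro w h1 h2
        apply hci
        rw [← orb_eq_of_mem h1, orb_eq_of_mem h2]
        exact self_mem_orb Q _
    have hsub := Set.eq_of_subset_of_ncard_le (Set.union_subset (orb_subset c.2 hc1)
      (orb_subset (inv_mem c.2) hci1)) (le_of_eq hcard) (Set.toFinite _)
    have hv' : v ∈ orb Q (c : H) ∪ orb Q (c : H)⁻¹ := hsub ▸ ⟨hvQ, hv1⟩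
    have hcp : (c : H) ^ p = 1 := orderOf_dvd_iff_pow_eq_one.1 (dvd_of_eq hco)
    rcases hv' with ⟨n, -, rfl⟩ | ⟨n, -, rfl⟩
    · rw [conj_pow, hcp, mul_one, mul_inv_cancel]
    · rw [conj_pow, inv_pow, hcp, inv_one, mul_one, mul_inv_cancel]
  -- an element of the second centre
  push Not at hna
  obtain ⟨a0, ha0, b0, hb0, hab⟩ := hna
  haveI : Nontrivial (↥(P : Subgroup H) ⧸ center ↥(P : Subgroup H)) := by
    rw [← not_subsingleton_iff_nontrivial, QuotientGroup.subsingleton_iff]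
    intro e
    exact hab (congrArg Subtype.val
      (Subgroup.mem_center_iff.1 (e ▸ mem_top (⟨b0, hb0⟩ : ↥(P : Subgroup H))) ⟨a0, ha0⟩))
  haveI := (P.isPGroup'.to_quotient (center ↥(P : Subgroup H))).center_nontrivial
  obtain ⟨⟨wb, hwb⟩, hwb1⟩ := exists_ne (1 : center (↥(P : Subgroup H) ⧸ center ↥(P : Subgroup H)))
  obtain ⟨w0, rfl⟩ := QuotientGroup.mk_surjective wb
  set w : H := (w0 : H) with hw
  have hwP : w ∈ (P : Subgroup H) := w0.2
  have hwZ : w ∉ ZR P := fun h => hwb1 (Subtype.ext ((QuotientGroup.eq_one_iff w0).2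
    (Subgroup.mem_center_iff.2 fun g => Subtype.ext (mem_centralizer_iff.1 h.2 g g.2))))
  have hw1 : w ≠ 1 := fun e => hwZ (e ▸ one_mem _)
  have hwr := isR_of_mem P.isPGroup' hwP
  set D := (P : Subgroup H) ⊓ centralizer ({w} : Set H) with hD
  have hDn : ∀ x ∈ (P : Subgroup H), ∀ d ∈ D, x * d * x⁻¹ ∈ D := by
    intro x hx d hd
    refine ⟨(P : Subgroup H).mul_mem ((P : Subgroup H).mul_mem hx hd.1) ((P : Subgroup H).inv_mem hx),
      mem_centralizer_singleton_iff.2 ?_⟩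
    -- `x⁻¹ * w * x = c * w` with `c` central
    have hc : ∀ g ∈ (P : Subgroup H), g * (x⁻¹ * w * x * w⁻¹) = x⁻¹ * w * x * w⁻¹ * g := by
      have h1 : (QuotientGroup.mk' (center ↥(P : Subgroup H))) (⟨x, hx⟩⁻¹ * w0 * ⟨x, hx⟩ * w0⁻¹) = 1 := by
        simp only [map_mul, map_inv]
        have e := Subgroup.mem_center_iff.1 hwb (QuotientGroup.mk ⟨x, hx⟩)
        simp only [QuotientGroup.mk'_apply]
        rw [mul_assoc ((QuotientGroup.mk (⟨x, hx⟩ : ↥(P : Subgroup H)))⁻¹ : _ ⧸ center ↥(P : Subgroup H)), ← e]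
        group
      exact fun g hg => congrArg Subtype.val
        (Subgroup.mem_center_iff.1 ((QuotientGroup.eq_one_iff _).1 h1) ⟨g, hg⟩)
    have h2 := mem_centralizer_singleton_iff.1 hd.2
    have h3 := hc d hd.1
    calc x * d * x⁻¹ * w = x * (d * (x⁻¹ * w * x * w⁻¹) * w) * x⁻¹ := by group
      _ = x * (x⁻¹ * w * x * w⁻¹ * (d * w)) * x⁻¹ := by rw [h3]; group
      _ = w * (x * d * x⁻¹) := by rw [h2]; group
  obtain ⟨Q, hQC, hwQ⟩ := O.exists_sylow hw1 hwr
  have hPQ : (P : Subgroup H) ≠ Q := fun e => hwZ (by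
    have : P = Q := Sylow.ext e
    exact this ▸ hwQ)
  have hDQ : D ≤ (Q : Subgroup H) := fun d hd => hQC ▸ hd.2
  have hDlt : D < (Q : Subgroup H) := lt_of_le_of_ne hDQ fun e => hPQ.symm
    (eq_of_le_of_card_ge (e ▸ inf_le_left) (le_of_eq (by rw [O.card_sylow P, O.card_sylow Q])))
  obtain ⟨q0, hq0Q, hq0N, hq0D⟩ : ∃ x ∈ (Q : Subgroup H), x ∈ normalizer (D : Set H) ∧ x ∉ D := by
    haveI := Q.isPGroup'.isNilpotent
    have hne : D.subgroupOf (Q : Subgroup H) < ⊤ :=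
      lt_top_iff_ne_top.2 fun e => not_le_of_gt hDlt (subgroupOf_eq_top.1 e)
    obtain ⟨x, hx, hxD⟩ := SetLike.exists_of_lt (Group.normalizerCondition_of_isNilpotent _ hne)
    refine ⟨x, x.2, mem_normalizer_iff.2 fun d => ⟨fun hd => ?_, fun hd => ?_⟩, fun h => hxD (mem_subgroupOf.2 h)⟩
    · exact mem_subgroupOf.1 ((mem_normalizer_iff.1 hx ⟨d, hDQ hd⟩).1 (mem_subgroupOf.2 hd))
    · have hdQ : d ∈ (Q : Subgroup H) := by
        have := mul_mem (mul_mem (inv_mem x.2) (hDQ hd)) x.2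
        rwa [show (x : H)⁻¹ * ((x : H) * d * (x : H)⁻¹) * x = d by group] at this
      exact mem_subgroupOf.1 ((mem_normalizer_iff.1 hx ⟨d, hdQ⟩).2 (mem_subgroupOf.2 hd))
  set N := normalizer (D : Set H) with hN
  have hPN : (P : Subgroup H) ≤ N := fun x hx => mem_normalizer_iff.2 fun d => ⟨hDn x hx d, fun h => by
    simpa [mul_assoc] using hDn x⁻¹ (inv_mem hx) _ h⟩
  have hconjN : ∀ n ∈ N, ∀ v ∈ D ⊓ centralizer (D : Set H), n * v * n⁻¹ ∈ D ⊓ centralizer (D : Set H) := by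
    intro n hn v hv
    refine ⟨(mem_normalizer_iff.1 hn v).1 hv.1, mem_centralizer_iff.2 fun e he => ?_⟩
    have h1 : n⁻¹ * e * n ∈ D := by
      have := (mem_normalizer_iff.1 (inv_mem hn) e).1 he
      rwa [inv_inv] at this
    calc e * (n * v * n⁻¹) = n * (n⁻¹ * e * n * v) * n⁻¹ := by group
      _ = n * v * n⁻¹ * e := by rw [mem_centralizer_iff.1 hv.2 _ h1]; group
  have hwV : w ∈ D ⊓ centralizer (D : Set H) :=
    ⟨⟨hwP, mem_centralizer_singleton_iff.2 rfl⟩,
      mem_centralizer_iff.2 fun d hd => mem_centralizer_singleton_iff.1 hd.2⟩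
  have hVr : IsPGroup p ↥(D ⊓ centralizer (D : Set H)) :=
    P.isPGroup'.to_le (inf_le_left.trans inf_le_left)
  have hL : Local p N (D ⊓ centralizer (D : Set H)) :=
    { hne := ⟨w, hwV, hw1⟩
      conj_mem := hconjN
      comm := fun v hv u hu => mem_centralizer_iff.1 hu.2 v hv.1
      pV := hVr
      exp := hexp
      cenV := fun v hv hv1 h hh => O.cen_isR hv1 (isR_of_mem hVr hv) hh
      cenP := fun x hx1 hxr h hh => O.cen_isR hx1 hxr hh
      odd := by
        intro h2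
        haveI : Fact (Nat.Prime 2) := ⟨Nat.prime_two⟩
        obtain ⟨t, ht⟩ := exists_prime_orderOf_dvd_card' (G := ↥N) 2 h2
        have hto : orderOf (t : H) = 2 := by rw [Subgroup.orderOf_coe, ht]
        refine hreal w hw1 hwr t (Cfsg.Lib.Sig.conj_eq_inv_of_fixedPointFree
          (by rw [← sq]; exact orderOf_dvd_iff_pow_eq_one.1 (dvd_of_eq hto)) (fun v hv => hconjN t t.2 v hv)
          ((eq_bot_iff_forall _).2 fun v ⟨hv, hvc⟩ => ?_) hwV)
        by_contra hv1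
        replace hvc : v ∈ centralizer ({(t : H)} : Set H) := hvc
        have htv : (t : H) ∈ centralizer ({v} : Set H) := by
          rw [mem_centralizer_singleton_iff] at hvc ⊢
          exact hvc.symm
        obtain ⟨a, ha⟩ := (O.cen_isR hv1 (isR_of_mem hVr hv) htv).orderOf
        exact O.hp2 ((Nat.prime_dvd_prime_iff_eq Nat.prime_two hp.out).1
          (Nat.prime_two.dvd_of_dvd_pow (dvd_of_eq (hto ▸ ha)))).symm }
  -- the `p`-elements of `N` form a subgroup
  have hclosed := hL.pclosed N le_rfl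
  let W : Subgroup H :=
    { carrier := {x | x ∈ N ∧ IsR p x}
      one_mem' := ⟨N.one_mem, 0, one_pow _⟩
      mul_mem' := fun {a b} ha hb => ⟨N.mul_mem ha.1 hb.1, hclosed a ha.1 b hb.1 ha.2 hb.2⟩
      inv_mem' := fun {a} ha => ⟨N.inv_mem ha.1, ha.2.elim fun j hj => ⟨j, by rw [inv_pow, hj, inv_one]⟩⟩ }
  have hWp : IsPGroup p ↥W := fun x => x.2.2.elim fun j hj => ⟨j, Subtype.ext (by simpa using hj)⟩
  have hWP : W = (P : Subgroup H) :=
    P.is_maximal' hWp fun x hx => ⟨hPN hx, isR_of_mem P.isPGroup' hx⟩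
  refine hq0D ⟨?_, hQC.symm ▸ hq0Q⟩
  rw [← hWP]
  exact ⟨hq0N, isR_of_mem Q.isPGroup' hq0Q⟩

end OddHyp

end Cfsg.Lib.ClassSizePSL
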