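import Cfsg.Agent.Lib.ClassSizePSL.Values
import Cfsg.Agent.Lib.Struct.MaxCentralizer

/-!
# Class sizes which are minimal and maximal: centralisers modulo the centre
-/

set_option autoImplicit false
set_option linter.unusedSectionVars false
set_option linter.style.haveILetI false

open Subgroup

namespace Cfsg.Lib.ClassSizePSL

universe u

variable {G : Type u} [Group G] [Finite G]

/-- `x` is an `r`-element. -/
def IsR {G : Type u} [Group G] (r : ℕ) (x : G) : Prop := ∃ a : ℕ, x ^ r ^ a = 1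

theorem IsR.orderOf {r : ℕ} [hr : Fact r.Prime] {x : G} (h : IsR r x) : ∃ a, orderOf x = r ^ a := by
  obtain ⟨a, ha⟩ := h
  obtain ⟨j, -, hj⟩ := (Nat.dvd_prime_pow hr.out).1 (orderOf_dvd_of_pow_eq_one ha)
  exact ⟨j, hj⟩

theorem isR_of_orderOf {r : ℕ} {x : G} {a : ℕ} (h : _root_.orderOf x = r ^ a) : IsR r x :=
  ⟨a, h ▸ pow_orderOf_eq_one x⟩

theorem IsR.coprime {r s : ℕ} [hr : Fact r.Prime] {x : G} (h : IsR r x) (hs : ¬ r ∣ s) :
    (_root_.orderOf x).Coprime s := by
  obtain ⟨a, ha⟩ := h.orderOf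
  exact ha ▸ ((hr.out.coprime_iff_not_dvd).2 hs).pow_left a

theorem mem_center_iff_cen {g : G} : g ∈ center G ↔ centralizer ({g} : Set G) = ⊤ := by
  rw [← cls_eq_one_iff, index_eq_one]

theorem cen_mul_le {u v : G} (h : Commute u v) (hco : (orderOf u).Coprime (orderOf v)) :
    centralizer ({u * v} : Set G) ≤ centralizer ({u} : Set G) := by
  intro g hg
  rw [mem_centralizer_singleton_iff] at hg ⊢
  have hu : u ∈ zpowers (u * v) := by
    obtain ⟨n, hn⟩ := exists_pow_eq_self_of_coprime (x := u) (n := orderOf v) hco.symm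
    refine ⟨((orderOf v * n : ℕ) : ℤ), ?_⟩
    show (u * v) ^ ((orderOf v * n : ℕ) : ℤ) = u
    rw [zpow_natCast, h.mul_pow, pow_mul, pow_mul v, pow_orderOf_eq_one, one_pow, mul_one, hn]
  obtain ⟨k, hk⟩ := mem_zpowers_iff.1 hu
  rw [← hk]
  exact (Commute.zpow_right (show Commute g (u * v) from hg) k).eq

/-- A class size minimal and maximal among the nontrivial ones. -/
structure MinMax (G : Type u) [Group G] (i r : ℕ) : Prop where
  ne_one : i ≠ 1
  min : ∀ y : G, cls y ∣ i → cls y = 1 ∨ cls y = i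
  max : ∀ y : G, i ∣ cls y → cls y = i
  not_dvd : ¬ r ∣ i
  other : ∃ y : G, r ∣ cls y

variable {i r : ℕ}

theorem MinMax.not_mem (h : MinMax G i r) {x : G} (hx : cls x = i) : x ∉ center G := fun hc =>
  h.ne_one (hx ▸ cls_eq_one_iff.2 hc)

theorem MinMax.cen_eq_of_le (h : MinMax G i r) {x y : G} (hx : cls x = i) (hy : y ∉ center G)
    (hle : centralizer ({x} : Set G) ≤ centralizer ({y} : Set G)) :
    centralizer ({y} : Set G) = centralizer ({x} : Set G) ∧ cls y = i := by
  rcases h.min y (hx ▸ index_dvd_of_le hle) with e | e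
  · exact absurd (cls_eq_one_iff.1 e) hy
  · refine ⟨(eq_of_le_of_card_ge hle (le_of_eq ?_)).symm, e⟩
    have h1 := cls_mul_card x
    have h2 := cls_mul_card y
    rw [hx] at h1
    rw [e, ← h1] at h2
    exact Nat.eq_of_mul_eq_mul_right (Nat.pos_of_ne_zero (hx ▸ index_ne_zero_of_finite)) h2

theorem MinMax.cen_eq_of_ge (h : MinMax G i r) {x y : G} (hx : cls x = i)
    (hle : centralizer ({y} : Set G) ≤ centralizer ({x} : Set G)) :
    centralizer ({y} : Set G) = centralizer ({x} : Set G) ∧ cls y = i := by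
  have e := h.max y (hx ▸ index_dvd_of_le hle)
  refine ⟨eq_of_le_of_card_ge hle (le_of_eq ?_), e⟩
  have h1 := cls_mul_card x
  have h2 := cls_mul_card y
  rw [hx] at h1
  rw [e, ← h1] at h2
  exact (Nat.eq_of_mul_eq_mul_right (Nat.pos_of_ne_zero (hx ▸ index_ne_zero_of_finite)) h2).symm

theorem MinMax.exists_r (h : MinMax G i r) [hr : Fact r.Prime] {x : G} (hx : cls x = i) :
    ∃ u : G, IsR r u ∧ cls u = i ∧ centralizer ({u} : Set G) = centralizer ({x} : Set G) := by
  obtain ⟨s, u, hs, huz, hus, hun⟩ : ∃ (s : ℕ) (u : G), s.Prime ∧ u ∈ zpowers x ∧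
      (∃ k, _root_.orderOf u = s ^ k) ∧ u ∉ center G := by
    by_contra hcon
    exact h.not_mem hx (Cfsg.Lib.Struct.MaxCent.mem_of_primary_parts fun s z hs hz hk =>
      of_not_not fun hn => hcon ⟨s, z, hs.out, hz, hk, hn⟩)
  have hle : centralizer ({x} : Set G) ≤ centralizer ({u} : Set G) := by
    intro g hg
    obtain ⟨k, rfl⟩ := mem_zpowers_iff.1 huz
    rw [mem_centralizer_singleton_iff] at hg ⊢
    exact (Commute.zpow_right (show Commute g x from hg) k).eq
  obtain ⟨hCu, hiu⟩ := h.cen_eq_of_le hx hun hle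
  obtain ⟨k, hk⟩ := hus
  by_cases hsr : s = r
  · exact ⟨u, isR_of_orderOf (hsr ▸ hk), hiu, hCu⟩
  -- otherwise every `r`-element of the centraliser centralises it
  by_cases hall : ∃ v : G, IsR r v ∧ v ∈ centralizer ({x} : Set G) ∧ v ∉ center G
  · obtain ⟨v, hv, hvC, hvn⟩ := hall
    have hco : (_root_.orderOf u).Coprime (_root_.orderOf v) := by
      rw [hk]
      exact (hv.coprime (fun e => hsr ((Nat.prime_dvd_prime_iff_eq hr.out hs).1 e).symm)).symm.pow_left k
    have hcom : Commute u v := by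
      rw [← hCu, mem_centralizer_singleton_iff] at hvC
      exact hvC.symm
    obtain ⟨e1, -⟩ := h.cen_eq_of_ge hiu (cen_mul_le hcom hco)
    have hle' : centralizer ({u} : Set G) ≤ centralizer ({v} : Set G) := by
      rw [← e1, hcom.eq]
      exact cen_mul_le hcom.symm hco.symm
    obtain ⟨e2, e3⟩ := h.cen_eq_of_le hiu hvn hle'
    exact ⟨v, hv, e3, e2.trans hCu⟩
  · exfalso
    push Not at hall
    obtain ⟨R⟩ : Nonempty (Sylow r ↥(centralizer ({x} : Set G))) := inferInstance
    obtain ⟨y, hy⟩ := h.other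
    have hRle : (R : Subgroup _).map (centralizer ({x} : Set G)).subtype ≤ centralizer ({y} : Set G) := by
      rintro _ ⟨v, hv, rfl⟩
      obtain ⟨a, ha⟩ := R.isPGroup' ⟨v, hv⟩
      have hvz := hall (v : G) ⟨a, by simpa using congrArg Subtype.val (congrArg Subtype.val ha)⟩ v.2
      exact mem_centralizer_singleton_iff.2 (Subgroup.mem_center_iff.1 hvz y).symm
    have := hy.trans (index_dvd_of_le hRle)
    rw [index_map_subtype, Nat.Prime.dvd_mul hr.out] at this
    rcases this with e | e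
    · exact R.not_dvd_index e
    · exact h.not_dvd (hx ▸ e)

theorem MinMax.central_r' (h : MinMax G i r) [Fact r.Prime] {x : G} (hx : cls x = i) (hxr : IsR r x) {v : G}
    (hv : v ∈ centralizer ({x} : Set G)) (hco : (_root_.orderOf v).Coprime r) :
    centralizer ({x} : Set G) ≤ centralizer ({v} : Set G) := by
  obtain ⟨a, ha⟩ := hxr.orderOf
  have hcom : Commute x v := (mem_centralizer_singleton_iff.1 hv).symm
  have hco' : (_root_.orderOf x).Coprime (_root_.orderOf v) := ha ▸ hco.symm.pow_left a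
  obtain ⟨e1, -⟩ := h.cen_eq_of_ge hx (cen_mul_le hcom hco')
  rw [← e1, hcom.eq]
  exact cen_mul_le hcom.symm hco'.symm

theorem exists_conj_mem_centralizer {s : ℕ} [Fact s.Prime] {u w : G} (hu : IsR s u) (hw : ¬ s ∣ cls w) :
    ∃ g : G, u * (g * w * g⁻¹) = g * w * g⁻¹ * u := by
  obtain ⟨a, ha⟩ := hu.orderOf
  obtain ⟨S, hS⟩ := (IsPGroup.of_card (by rw [Nat.card_zpowers, ha]) : IsPGroup s (zpowers u)).exists_le_sylow
  obtain ⟨T⟩ : Nonempty (Sylow s ↥(centralizer ({w} : Set G))) := inferInstance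
  have hTG : ¬ s ∣ ((T : Subgroup _).map (centralizer ({w} : Set G)).subtype).index := by
    rw [index_map_subtype, Nat.Prime.dvd_mul Fact.out]
    exact not_or.2 ⟨T.not_dvd_index, hw⟩
  set T' := (T.isPGroup'.map (centralizer ({w} : Set G)).subtype).toSylow hTG with hT'
  obtain ⟨g, hg⟩ := MulAction.exists_smul_eq G T' S
  refine ⟨g, ?_⟩
  have hug : u ∈ (g • T' : Sylow s G) := hg.symm ▸ hS (mem_zpowers u)
  have hmem : g⁻¹ * u * g ∈ centralizer ({w} : Set G) := by
    replace hug : u ∈ ((g • T' : Sylow s G) : Subgroup G) := hug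
    rw [Sylow.coe_subgroup_smul] at hug
    obtain ⟨t, ht, rfl⟩ := hug
    have : t ∈ centralizer ({w} : Set G) := map_subtype_le (T : Subgroup _) ((T.isPGroup'.map _).mem_toSylow hTG |>.1 ht)
    simpa [MulAut.smul_def, mul_assoc] using this
  rw [mem_centralizer_singleton_iff] at hmem
  calc u * (g * w * g⁻¹) = g * (g⁻¹ * u * g * w) * g⁻¹ := by group
    _ = g * w * g⁻¹ * u := by rw [hmem]; group

theorem cls_conj (g w : G) : cls (g * w * g⁻¹) = cls w := by
  have h1 := cls_mul_card (g * w * g⁻¹)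
  have h2 := cls_mul_card w
  have e : Nat.card (centralizer ({g * w * g⁻¹} : Set G)) = Nat.card (centralizer ({w} : Set G)) := by
    have := Cfsg.Lib.Dickson.card_centralizer_conj g⁻¹ w
    rwa [inv_inv] at this
  rw [e, ← h2] at h1
  exact Nat.eq_of_mul_eq_mul_left Nat.card_pos h1

/-- A prime of a noncentral element of the centraliser, other than `r`, divides all other sizes. -/
theorem MinMax.dvd_other (h : MinMax G i r) [hr : Fact r.Prime] {x : G} (hx : cls x = i) {s : ℕ} [hs : Fact s.Prime]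
    (hsr : s ≠ r) {u : G} (hu : IsR s u) (huC : u ∈ centralizer ({x} : Set G)) (hun : u ∉ center G)
    {w : G} (hw : w ∉ center G) (hwi : cls w ≠ i) : s ∣ cls w := by
  obtain ⟨x', hx'r, hx'i, hx'C⟩ := h.exists_r hx
  rw [← hx'C] at huC
  set C := centralizer ({x'} : Set G) with hC
  have hco : (_root_.orderOf u).Coprime r :=
    hu.coprime fun e => hsr ((Nat.prime_dvd_prime_iff_eq hs.out hr.out).1 e)
  obtain ⟨hCu, hui⟩ := h.cen_eq_of_le hx'i hun (h.central_r' hx'i hx'r huC hco)
  -- the centraliser is abelian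
  have hab : ∀ a ∈ C, ∀ b ∈ C, a * b = b * a := by
    intro a ha b hb
    refine mem_centralizer_singleton_iff.1 (Cfsg.Lib.Struct.MaxCent.mem_of_primary_parts
      (H := centralizer ({b} : Set G)) fun t z ht hz hk => ?_)
    haveI := ht
    have hzC : z ∈ C := zpowers_le.2 ha hz
    obtain ⟨k, hk⟩ := hk
    rw [mem_centralizer_singleton_iff]
    by_cases htr : t = r
    · have h1 := h.not_mem hx'i
      have hcoz : (_root_.orderOf z).Coprime s :=
        (isR_of_orderOf hk).coprime fun e => hsr ((Nat.prime_dvd_prime_iff_eq ht.out hs.out).1 e ▸ htr)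
      have hcom : Commute u z := by
        rw [hC, ← hCu, mem_centralizer_singleton_iff] at hzC
        exact hzC.symm
      obtain ⟨j, hj⟩ := hu.orderOf
      have hco2 : (_root_.orderOf u).Coprime (_root_.orderOf z) := hj ▸ hcoz.symm.pow_left j
      obtain ⟨e1, -⟩ := h.cen_eq_of_ge hui (cen_mul_le hcom hco2)
      have hle : centralizer ({u} : Set G) ≤ centralizer ({z} : Set G) := by
        rw [← e1, hcom.eq]; exact cen_mul_le hcom.symm hco2.symm
      rw [hCu, ← hC] at hle
      exact (mem_centralizer_singleton_iff.1 (hle hb)).symm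
    · have := h.central_r' hx'i hx'r hzC
        ((isR_of_orderOf hk).coprime fun e => htr ((Nat.prime_dvd_prime_iff_eq ht.out hr.out).1 e))
      exact (mem_centralizer_singleton_iff.1 (this hb)).symm
  by_contra hdvd
  obtain ⟨g, hg⟩ := exists_conj_mem_centralizer hu hdvd
  have hwC : g * w * g⁻¹ ∈ C := by
    rw [hC, ← hCu]; exact mem_centralizer_singleton_iff.2 hg.symm
  have hle : C ≤ centralizer ({g * w * g⁻¹} : Set G) := fun c hc =>
    mem_centralizer_singleton_iff.2 (hab c hc _ hwC)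
  obtain ⟨-, e⟩ := h.cen_eq_of_le hx'i (fun hz => hw (by
    have := (Subgroup.Normal.conj_mem inferInstance _ hz g⁻¹)
    simpa [mul_assoc] using this)) hle
  exact hwi ((cls_conj g w).symm.trans e)

/-- The index of the centre in a centraliser. -/
noncomputable abbrev modZ {G : Type u} [Group G] (x : G) : ℕ :=
  (center G).relIndex (centralizer ({x} : Set G))

theorem modZ_mul_cls (x : G) : modZ x * cls x = (center G).index :=
  relIndex_mul_index (fun _ hz => mem_centralizer_singleton_iff.2 (Subgroup.mem_center_iff.1 hz x).symm)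

theorem not_dvd_modZ {x : G} {s : ℕ} [hs : Fact s.Prime]
    (h : ∀ u : G, IsR s u → u ∈ centralizer ({x} : Set G) → u ∈ center G) : ¬ s ∣ modZ x := by
  intro hd
  obtain ⟨S⟩ : Nonempty (Sylow s ↥(centralizer ({x} : Set G))) := inferInstance
  refine S.not_dvd_index (hd.trans ?_)
  rw [modZ, relIndex]
  refine index_dvd_of_le fun v hv => ?_
  obtain ⟨a, ha⟩ := S.isPGroup' ⟨v, hv⟩
  exact h (v : G) ⟨a, by simpa using congrArg Subtype.val (congrArg Subtype.val ha)⟩ v.2

theorem dvd_modZ {x y : G} {s : ℕ} [hs : Fact s.Prime] (hy : IsR s y)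
    (hyC : y ∈ centralizer ({x} : Set G)) (hyn : y ∉ center G) : s ∣ modZ x := by
  set C := centralizer ({x} : Set G) with hC
  haveI : ((center G).subgroupOf C).Normal := inferInstance
  let yb : ↥C ⧸ (center G).subgroupOf C := QuotientGroup.mk ⟨y, hyC⟩
  have hne : yb ≠ 1 := fun e => hyn (mem_subgroupOf.1 ((QuotientGroup.eq_one_iff _).1 e))
  obtain ⟨a, ha⟩ := hy
  have hord : _root_.orderOf yb ∣ s ^ a := orderOf_dvd_of_pow_eq_one (by
    rw [← QuotientGroup.mk_pow, QuotientGroup.eq_one_iff, mem_subgroupOf]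
    simp [ha])
  obtain ⟨j, -, hj⟩ := (Nat.dvd_prime_pow hs.out).1 hord
  have h2 : _root_.orderOf yb ∣ modZ x := orderOf_dvd_natCard yb
  rcases j with _ | j
  · exact absurd (orderOf_eq_one_iff.1 (by rw [hj, pow_zero])) hne
  · exact ((dvd_pow_self s j.succ_ne_zero).trans (dvd_of_eq hj.symm)).trans h2

/-- The hypothesis on an abstract group: centralisers of nontrivial `r`-elements have order `g`, their
`r'`-elements being central in them. -/
structure Good (H : Type u) [Group H] (r g : ℕ) : Prop where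
  card_cen : ∀ y : H, y ≠ 1 → IsR r y → Nat.card (centralizer ({y} : Set H)) = g
  central : ∀ y : H, y ≠ 1 → IsR r y → ∀ v ∈ centralizer ({y} : Set H),
    (_root_.orderOf v).Coprime r → ∀ c ∈ centralizer ({y} : Set H), v * c = c * v

theorem exists_rpart {r : ℕ} [hr : Fact r.Prime] (g : G) (hg : IsR r (QuotientGroup.mk g : G ⧸ center G)) :
    ∃ y : G, IsR r y ∧ (QuotientGroup.mk y : G ⧸ center G) = QuotientGroup.mk g := by
  obtain ⟨b, m, hm, hbm⟩ := Nat.exists_eq_pow_mul_and_not_dvd (orderOf_pos g).ne' r hr.out.ne_one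
  obtain ⟨a, ha⟩ := hg.orderOf
  have hco : m.Coprime (_root_.orderOf (QuotientGroup.mk g : G ⧸ center G)) :=
    ha ▸ (hr.out.coprime_iff_not_dvd.2 hm).symm.pow_right a
  obtain ⟨t, ht⟩ := exists_pow_eq_self_of_coprime hco
  refine ⟨g ^ (m * t), ⟨b, ?_⟩, ?_⟩
  · rw [← pow_mul, show m * t * r ^ b = r ^ b * m * t by ring, ← hbm, pow_mul, pow_orderOf_eq_one, one_pow]
  · rw [QuotientGroup.mk_pow, pow_mul, ht]

theorem isR_center_of_coprime {r m : ℕ} [Fact r.Prime] {y : G} (hy : IsR r y) (hm : ¬ r ∣ m)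
    (h : y ^ m ∈ center G) : y ∈ center G := by
  obtain ⟨n, hn⟩ := exists_pow_eq_self_of_coprime (hy.coprime hm).symm
  exact hn ▸ pow_mem h n

/-- Centralisers in the central quotient. -/
theorem map_centralizer {r : ℕ} [hr : Fact r.Prime] {y : G} (hy : IsR r y) (hnd : ¬ r ∣ cls y) :
    (centralizer ({(QuotientGroup.mk y : G ⧸ center G)} : Set (G ⧸ center G))).comap (QuotientGroup.mk' (center G)) =
      centralizer ({y} : Set G) := by
  set π := QuotientGroup.mk' (center G) with hπ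
  set C := centralizer ({y} : Set G) with hC
  set E := (centralizer ({π y} : Set (G ⧸ center G))).comap π with hE
  have hCE : C ≤ E := fun c hc => by
    rw [hE, mem_comap, mem_centralizer_singleton_iff, ← map_mul, ← map_mul,
      mem_centralizer_singleton_iff.1 hc]
  refine le_antisymm ?_ hCE
  show E ≤ C
  have hz : ∀ h ∈ E, ∃ z ∈ center G, h * y * h⁻¹ = y * z := by
    intro h hh
    rw [hE, mem_comap, mem_centralizer_singleton_iff, ← map_mul, ← map_mul] at hh
    obtain ⟨z, hz, e⟩ := (QuotientGroup.mk'_eq_mk' _).1 hh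
    refine ⟨z⁻¹, inv_mem hz, ?_⟩
    calc h * y * h⁻¹ = h * y * z * z⁻¹ * h⁻¹ := by group
      _ = y * (h * z⁻¹) * h⁻¹ := by rw [e, mul_assoc y]
      _ = y * z⁻¹ := by rw [Subgroup.mem_center_iff.1 (inv_mem hz) h]; group
  haveI hn : (C.subgroupOf E).Normal := by
    refine (normal_subgroupOf_iff hCE).2 fun c h hc hh => ?_
    obtain ⟨z, hz, e⟩ := hz h hh
    rw [hC, mem_centralizer_singleton_iff] at hc ⊢
    have h2 : h * c * h⁻¹ * (h * y * h⁻¹) = h * y * h⁻¹ * (h * c * h⁻¹) := by
      calc h * c * h⁻¹ * (h * y * h⁻¹) = h * (c * y) * h⁻¹ := by group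
        _ = h * y * h⁻¹ * (h * c * h⁻¹) := by rw [hc]; group
    rw [e] at h2
    have h3 := Subgroup.mem_center_iff.1 hz (h * c * h⁻¹)
    calc h * c * h⁻¹ * y = h * c * h⁻¹ * (y * z) * z⁻¹ := by group
      _ = y * (z * (h * c * h⁻¹)) * z⁻¹ := by rw [h2, mul_assoc y]
      _ = y * (h * c * h⁻¹) := by rw [← h3]; group
  intro h hh
  by_contra hhC
  let hb : ↥E ⧸ C.subgroupOf E := QuotientGroup.mk ⟨h, hh⟩
  obtain ⟨a, ha⟩ := hy.orderOf
  obtain ⟨z, hz1, e⟩ := hz h hh
  have hiter : ∀ n : ℕ, h ^ n * y * (h ^ n)⁻¹ = y * z ^ n := by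
    intro n
    induction n with
    | zero => simp
    | succ n ih =>
      calc h ^ (n + 1) * y * (h ^ (n + 1))⁻¹ = h * (h ^ n * y * (h ^ n)⁻¹) * h⁻¹ := by
            rw [pow_succ']; group
        _ = h * y * h⁻¹ * (h * z ^ n * h⁻¹) := by rw [ih]; group
        _ = y * z ^ (n + 1) := by
            rw [e, Subgroup.mem_center_iff.1 (pow_mem hz1 n) h, mul_inv_cancel_right, mul_assoc, pow_succ']
  have hzn : z ^ _root_.orderOf y = 1 := by
    have h1 : (h * y * h⁻¹) ^ _root_.orderOf y = 1 := by rw [conj_pow, pow_orderOf_eq_one]; simp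
    have hyz : Commute y z := Subgroup.mem_center_iff.1 hz1 y
    rwa [e, hyz.mul_pow, pow_orderOf_eq_one, one_mul] at h1
  have hord : _root_.orderOf hb ∣ r ^ a := orderOf_dvd_of_pow_eq_one (by
    rw [← QuotientGroup.mk_pow, QuotientGroup.eq_one_iff, mem_subgroupOf, hC, mem_centralizer_singleton_iff]
    show h ^ r ^ a * y = y * h ^ r ^ a
    have h1 := hiter (r ^ a)
    rw [← ha] at h1 ⊢
    rw [hzn, mul_one] at h1
    exact mul_inv_eq_iff_eq_mul.1 h1)
  have h2 : _root_.orderOf hb ∣ cls y := (orderOf_dvd_natCard hb).trans (by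
    refine ⟨E.index, (relIndex_mul_index hCE).symm⟩)
  have h3 := Nat.eq_one_of_dvd_coprimes (((hr.out.coprime_iff_not_dvd).2 hnd).pow_left a) hord h2
  exact hhC (mem_subgroupOf.1 ((QuotientGroup.eq_one_iff _).1 (orderOf_eq_one_iff.1 h3)))

theorem card_centralizer_quot {r : ℕ} [Fact r.Prime] {y : G} (hy : IsR r y) (hnd : ¬ r ∣ cls y) :
    Nat.card (centralizer ({(QuotientGroup.mk y : G ⧸ center G)} : Set (G ⧸ center G))) = modZ y := by
  set π := QuotientGroup.mk' (center G) with hπ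
  have h1 := map_centralizer hy hnd
  have h2 : (centralizer ({(QuotientGroup.mk y : G ⧸ center G)} : Set (G ⧸ center G))).index = cls y := by
    rw [cls, ← h1, index_comap_of_surjective _ (QuotientGroup.mk'_surjective _)]
  have h3 := card_mul_index (centralizer ({(QuotientGroup.mk y : G ⧸ center G)} : Set (G ⧸ center G)))
  rw [h2, ← index_eq_card, ← modZ_mul_cls y] at h3
  exact Nat.eq_of_mul_eq_mul_right (Nat.pos_of_ne_zero index_ne_zero_of_finite) h3

/-- From the class sizes to the hypothesis on the central quotient. -/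
theorem MinMax.good (h : MinMax G i r) [hr : Fact r.Prime] {g : ℕ} (hg : (center G).index = g * i)
    (hsizes : ∀ y : G, y ∉ center G → cls y ≠ i → ¬ r ∣ modZ y) : Good (G ⧸ center G) r g := by
  have hlift : ∀ yb : G ⧸ center G, yb ≠ 1 → IsR r yb →
      ∃ y : G, IsR r y ∧ QuotientGroup.mk y = yb ∧ cls y = i := by
    intro yb h1 hr'
    obtain ⟨g0, rfl⟩ := QuotientGroup.mk_surjective yb
    obtain ⟨y, hy, e⟩ := exists_rpart g0 hr'
    have hyn : y ∉ center G := fun hc => h1 (e ▸ (QuotientGroup.eq_one_iff y).2 hc)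
    refine ⟨y, hy, e, by_contra fun hne => hsizes y hyn hne (dvd_modZ hy ?_ hyn)⟩
    exact mem_centralizer_singleton_iff.2 rfl
  constructor
  · intro yb h1 hr'
    obtain ⟨y, hy, rfl, hyi⟩ := hlift yb h1 hr'
    rw [card_centralizer_quot hy (hyi ▸ h.not_dvd)]
    have := modZ_mul_cls y
    rw [hyi, hg] at this
    exact Nat.eq_of_mul_eq_mul_right (Nat.pos_of_ne_zero (hyi ▸ index_ne_zero_of_finite)) this
  · intro yb h1 hr' v hv hvco c hc
    obtain ⟨y, hy, rfl, hyi⟩ := hlift yb h1 hr'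
    have hmap := map_centralizer hy (hyi ▸ h.not_dvd)
    obtain ⟨v0, rfl⟩ := QuotientGroup.mk_surjective v
    obtain ⟨c0, rfl⟩ := QuotientGroup.mk_surjective c
    have hv0 : v0 ∈ centralizer ({y} : Set G) := hmap ▸ hv
    have hc0 : c0 ∈ centralizer ({y} : Set G) := hmap ▸ hc
    set m := _root_.orderOf (QuotientGroup.mk v0 : G ⧸ center G) with hm
    have hmz : v0 ^ m ∈ center G := by
      rw [← QuotientGroup.eq_one_iff, QuotientGroup.mk_pow, hm, pow_orderOf_eq_one]
    obtain ⟨b, n, hn, hbn⟩ := Nat.exists_eq_pow_mul_and_not_dvd (orderOf_pos v0).ne' r hr.out.ne_one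
    -- the `r`-part of `v0` is central
    have hcen : v0 ^ n ∈ center G := by
      refine isR_center_of_coprime (r := r) (m := m) ⟨b, ?_⟩
        (hr.out.coprime_iff_not_dvd.1 hvco.symm) ?_
      · rw [← pow_mul, mul_comm, ← hbn, pow_orderOf_eq_one]
      · rw [← pow_mul, mul_comm, pow_mul]; exact pow_mem hmz n
    have hvb : (QuotientGroup.mk v0 : G ⧸ center G) ^ n = 1 := by
      rw [← QuotientGroup.mk_pow, QuotientGroup.eq_one_iff]; exact hcen
    have hcon : n.Coprime (r ^ b) := (hr.out.coprime_iff_not_dvd.2 hn).symm.pow_right b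
    obtain ⟨t, ht⟩ : ∃ t, (QuotientGroup.mk v0 : G ⧸ center G) ^ (r ^ b * t) = QuotientGroup.mk v0 := by
      obtain ⟨t, ht⟩ := exists_pow_eq_self_of_coprime (x := (QuotientGroup.mk v0 : G ⧸ center G)) (n := r ^ b)
        (hcon.symm.coprime_dvd_right (orderOf_dvd_of_pow_eq_one hvb))
      exact ⟨t, by rw [pow_mul]; exact ht⟩
    have hvp : v0 ^ (r ^ b * t) ∈ centralizer ({y} : Set G) := pow_mem hv0 _
    have hord : (_root_.orderOf (v0 ^ (r ^ b * t))).Coprime r := by
      refine Nat.Coprime.coprime_dvd_left (orderOf_dvd_of_pow_eq_one ?_)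
        (hr.out.coprime_iff_not_dvd.2 hn).symm
      rw [← pow_mul, show r ^ b * t * n = r ^ b * n * t by ring, ← hbn, pow_mul, pow_orderOf_eq_one, one_pow]
    have hcomm := mem_centralizer_singleton_iff.1 (h.central_r' hyi hy hvp hord hc0)
    rw [← ht, ← QuotientGroup.mk_pow, ← QuotientGroup.mk_mul, ← QuotientGroup.mk_mul, hcomm]

end Cfsg.Lib.ClassSizePSL
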