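import Cfsg.Agent.Lib.ClassSizePSL.Even

/-!
# The derived subgroup meets the centre trivially
-/

set_option autoImplicit false
set_option linter.unusedSectionVars false
set_option linter.style.haveILetI false

open Subgroup
open scoped commutatorElement

namespace Cfsg.Lib.ClassSizePSL

universe u v

variable {G : Type u} [Group G] [Finite G]

theorem pow_index_eq_one {E : Subgroup G} (hE : ⁅E, E⁆ ⊓ center G = ⊥) {z : G}
    (hz : z ∈ commutator G) (hzc : z ∈ center G) : z ^ E.index = 1 := by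
  have key : ∀ (k : ℕ) (g₀ : G), g₀⁻¹ * z ^ k * g₀ ∈ E → g₀⁻¹ * z ^ k * g₀ = z ^ k := fun k g₀ _ => by
    rw [mul_assoc, ← Subgroup.mem_center_iff.1 (pow_mem hzc k) g₀, inv_mul_cancel_left]
  have h1 := MonoidHom.transfer_eq_pow (Abelianization.of (G := ↥E)) z key
  have h2 : MonoidHom.transfer (Abelianization.of (G := ↥E)) z = 1 :=
    MonoidHom.mem_ker.1 (Abelianization.commutator_subset_ker _ hz)
  rw [h2] at h1
  have h3 : (⟨z ^ E.index, MonoidHom.transfer_eq_pow_aux z key⟩ : ↥E) ∈ commutator ↥E := by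
    rw [← Abelianization.ker_of ↥E, MonoidHom.mem_ker]; exact h1.symm
  have h4 : z ^ E.index ∈ ⁅E, E⁆ := by
    rw [← map_subtype_commutator]; exact mem_map_of_mem E.subtype h3
  have h5 : z ^ E.index ∈ ⁅E, E⁆ ⊓ center G := ⟨h4, pow_mem hzc _⟩
  rwa [hE, mem_bot] at h5

theorem commutator_of_comm {E : Subgroup G} (h : ∀ x ∈ E, ∀ y ∈ E, x * y = y * x) : ⁅E, E⁆ ⊓ center G = ⊥ := by
  rw [commutator_eq_bot_iff_le_centralizer.2 fun x hx => mem_centralizer_iff.2 fun y hy => h y hy x hx, bot_inf_eq]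

theorem comap_zpowers_comm (yb : G ⧸ center G) :
    ∀ u ∈ (zpowers yb).comap (QuotientGroup.mk' (center G)),
      ∀ v ∈ (zpowers yb).comap (QuotientGroup.mk' (center G)), u * v = v * u := by
  obtain ⟨g, rfl⟩ := QuotientGroup.mk_surjective yb
  have hmem : ∀ u ∈ (zpowers (QuotientGroup.mk g : G ⧸ center G)).comap (QuotientGroup.mk' (center G)),
      ∃ (j : ℤ) (z : G), z ∈ center G ∧ u = g ^ j * z := by
    intro u hu
    obtain ⟨j, hj⟩ := mem_zpowers_iff.1 (mem_comap.1 hu)
    refine ⟨j, (g ^ j)⁻¹ * u, QuotientGroup.eq.1 ?_, by group⟩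
    rw [QuotientGroup.mk_zpow]; exact hj
  intro u hu v hv
  obtain ⟨j, z, hz, rfl⟩ := hmem u hu
  obtain ⟨l, w, hw, rfl⟩ := hmem v hv
  have hcz : Commute z (g ^ l * w) := (Subgroup.mem_center_iff.1 hz _).symm
  have hcw : Commute (g ^ j) w := Subgroup.mem_center_iff.1 hw _
  exact ((Commute.zpow_zpow_self g j l).mul_right hcw).mul_left hcz

theorem comap_comm {r : ℕ} [Fact r.Prime] {E : Subgroup (G ⧸ center G)}
    (hE : ∀ yb ∈ E, yb ≠ 1 → IsR r yb ∧ centralizer ({yb} : Set (G ⧸ center G)) = E)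
    (hcls : ∀ y : G, IsR r y → y ∉ center G → ¬ r ∣ cls y) :
    ∀ u ∈ E.comap (QuotientGroup.mk' (center G)), ∀ v ∈ E.comap (QuotientGroup.mk' (center G)), u * v = v * u := by
  intro u hu v hv
  by_cases huz : u ∈ center G
  · exact (Subgroup.mem_center_iff.1 huz v).symm
  obtain ⟨hr', hC⟩ := hE _ (mem_comap.1 hu) (fun e => huz ((QuotientGroup.eq_one_iff u).1 e))
  obtain ⟨y, hy, e⟩ := exists_rpart u hr'
  have hyn : y ∉ center G := fun hc => huz ((QuotientGroup.eq_one_iff u).1 (e ▸ (QuotientGroup.eq_one_iff y).2 hc))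
  rw [← hC, show (QuotientGroup.mk' (center G)) u = QuotientGroup.mk y from e.symm,
    map_centralizer hy (hcls y hy hyn), mem_centralizer_singleton_iff] at hv
  have hc : y⁻¹ * u ∈ center G := QuotientGroup.eq.1 e
  rw [show u = y * (y⁻¹ * u) by group]
  exact (Commute.mul_left (Commute.symm hv) (Subgroup.mem_center_iff.1 hc v).symm).eq

theorem card_cen_equiv {A : Type u} {B : Type v} [Group A] [Group B] (e : A ≃* B) (x : A) :
    Nat.card (centralizer ({x} : Set A)) = Nat.card (centralizer ({e x} : Set B)) := by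
  refine Nat.card_congr (e.toEquiv.subtypeEquiv fun a => ?_)
  simp only [mem_centralizer_singleton_iff]
  show a * x = x * a ↔ e a * e x = e x * e a
  rw [← map_mul, ← map_mul, e.apply_eq_iff_eq]

/-- The conclusion from a trivial intersection. -/
theorem split_of {S : Type v} [Group S] (e : G ⧸ center G ≃* S) [IsSimpleGroup S]
    (hS : ¬ ∀ x y : S, x * y = y * x) (hz : ∀ z ∈ commutator G, z ∈ center G → z = 1) :
    ∃ N A : Subgroup G, N.Normal ∧ A ≤ center G ∧ N ⊓ A = ⊥ ∧ N ⊔ A = ⊤ ∧ Nonempty (N ≃* S) := by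
  set φ : G →* S := e.toMonoidHom.comp (QuotientGroup.mk' (center G)) with hφ
  have hφs : Function.Surjective φ := e.surjective.comp (QuotientGroup.mk'_surjective _)
  have hker : φ.ker = center G := by
    ext x
    simp [hφ, MonoidHom.mem_ker]
  have hmap : (commutator G).map φ = ⊤ := by
    rw [_root_.commutator_def, map_commutator, map_top_of_surjective φ hφs, ← _root_.commutator_def]
    refine ((inferInstance : (commutator S).Normal).eq_bot_or_eq_top).resolve_left fun h => hS ?_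
    intro x y
    have h1 : ⁅x, y⁆ ∈ commutator S := by
      rw [_root_.commutator_def]; exact commutator_mem_commutator (mem_top x) (mem_top y)
    rw [h, mem_bot, commutatorElement_eq_one_iff_mul_comm] at h1
    exact h1
  refine ⟨commutator G, center G, inferInstance, le_rfl,
    (eq_bot_iff_forall _).2 fun z hzz => hz z hzz.1 hzz.2, ?_, ⟨MulEquiv.ofBijective (φ.comp (commutator G).subtype)
      ⟨?_, ?_⟩⟩⟩
  · rw [← hker, ← comap_map_eq, hmap, comap_top]
  · rw [← MonoidHom.ker_eq_bot_iff, eq_bot_iff_forall]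
    intro x hx
    exact Subtype.ext (hz x x.2 (hker ▸ (hx : (x : G) ∈ φ.ker)))
  · intro s
    obtain ⟨x, hx, hxs⟩ := mem_map.1 (hmap.ge (mem_top s))
    exact ⟨⟨x, hx⟩, hxs⟩

theorem not_comm_psl {F : Type v} [Field F] [Fintype F] (h4 : 4 ≤ Fintype.card F) :
    ¬ ∀ x y : Matrix.ProjectiveSpecialLinearGroup (Fin 2) F, x * y = y * x := by
  intro hc
  obtain ⟨x, hx1, hx⟩ := exists_unipotent (F := F) h4
  have htop : centralizer ({x} : Set (Matrix.ProjectiveSpecialLinearGroup (Fin 2) F)) = ⊤ :=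
    eq_top_iff.2 fun y _ => mem_centralizer_singleton_iff.2 (hc y x)
  rw [htop, Subgroup.card_top] at hx
  have h1 := Cfsg.Lib.Linear.Two.card_PSL_two (F := F)
  rw [hx] at h1
  have h2 : Nat.gcd 2 (Fintype.card F - 1) ≤ 2 := Nat.gcd_le_left _ two_pos
  have h3 : 16 ≤ Fintype.card F ^ 2 := by nlinarith
  have h4' : Fintype.card F * 3 ≤ Fintype.card F * (Fintype.card F ^ 2 - 1) := Nat.mul_le_mul_left _ (by omega)
  have h5 : Nat.gcd 2 (Fintype.card F - 1) * Fintype.card F ≤ 2 * Fintype.card F := Nat.mul_le_mul_right _ h2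
  omega

theorem eq_one_of_pows {z : G} {m n k : ℕ} (hm : z ^ m = 1) (hn : z ^ n = 1) (hk : z ^ k = 1)
    (h : Nat.gcd (Nat.gcd m n) k = 1) : z = 1 := by
  refine orderOf_eq_one_iff.1 (Nat.dvd_one.1 ?_)
  rw [← h]
  exact Nat.dvd_gcd (Nat.dvd_gcd (orderOf_dvd_of_pow_eq_one hm) (orderOf_dvd_of_pow_eq_one hn))
    (orderOf_dvd_of_pow_eq_one hk)

theorem index_comap_quot (E : Subgroup (G ⧸ center G)) :
    (E.comap (QuotientGroup.mk' (center G))).index = E.index :=
  index_comap_of_surjective _ (QuotientGroup.mk'_surjective _)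

theorem index_zpowers {yb : G ⧸ center G} {c i : ℕ} (hc : orderOf yb = c) (hn : (center G).index = c * i) :
    (zpowers yb).index = i := by
  have h := card_mul_index (zpowers yb)
  rw [Nat.card_zpowers, hc, ← index_eq_card, hn] at h
  exact Nat.eq_of_mul_eq_mul_left (hc ▸ orderOf_pos yb) h

theorem split_even {F : Type v} [Field F] [Fintype F] {a b : ℕ} (hd : EvenData (Fintype.card F) a b)
    (hS : Set.range (fun g : G => cls g) = {1, a * b, Fintype.card F * a, Fintype.card F * b}) :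
    ∀ z ∈ commutator G, z ∈ center G → z = 1 := by
  obtain ⟨e⟩ := quot_iso_even hd hS
  obtain ⟨p, hpp, -, f, hf0, hf⟩ := Cfsg.Lib.Dickson.exists_char (F := F)
  have hp2 : p = 2 := ((Nat.prime_dvd_prime_iff_eq Nat.prime_two hpp).1
    (Nat.prime_two.dvd_of_dvd_pow (hf ▸ hd.q2))).symm
  subst hp2
  haveI : Fact (Nat.Prime 2) := ⟨Nat.prime_two⟩
  set q := Fintype.card F with hqdef
  have hn := index_centerE hd hf hS
  have E : EvenHyp (G ⧸ center G) f q a b :=
    { data := hd
      hq := hf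
      card := by rw [← index_eq_card, hn]
      goodU := good_UE hd hf hS
      goodA := fun r hr h => haveI := Fact.mk hr; good_A hd.symm hf (swap_sizes hS) h
      goodB := fun r hr h => haveI := Fact.mk hr; good_A hd hf hS h }
  obtain ⟨P⟩ : Nonempty (Sylow 2 (G ⧸ center G)) := inferInstance
  obtain ⟨hPq, hfac, -⟩ := E.two_facts P
  have hq4 := hd.q4
  have hPc : ∀ yb ∈ (P : Subgroup (G ⧸ center G)), yb ≠ 1 → IsR 2 yb ∧
      centralizer ({yb} : Set (G ⧸ center G)) = (P : Subgroup (G ⧸ center G)) := fun yb h h1 =>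
    ⟨isR_of_mem P.isPGroup' h, (hfac yb h h1).2⟩
  have hcls : ∀ y : G, IsR 2 y → y ∉ center G → ¬ 2 ∣ cls y := by
    intro y hy hyn h2
    by_cases hne : cls y = a * b
    · exact E.ndvd (hne ▸ h2)
    · exact sizes_U hd hf hS y hyn hne (dvd_modZ hy (mem_centralizer_singleton_iff.2 rfl) hyn)
  have htorus : ∀ K : ℕ, (K = a ∨ K = b) → ∃ yb : G ⧸ center G, orderOf yb = K := by
    intro K hK
    obtain ⟨x, hx, -⟩ := exists_torus_even (F := F) hd.q2 hq4 (K := K) (by
      rcases hd.sum with ⟨e1, e2⟩ | ⟨e1, e2⟩ <;> rcases hK with rfl | rfl <;> omega)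
    exact ⟨e.symm x, by rw [MulEquiv.orderOf_eq, hx]⟩
  obtain ⟨ya, hya⟩ := htorus a (Or.inl rfl)
  obtain ⟨yb, hyb⟩ := htorus b (Or.inr rfl)
  intro z hz hzc
  have h1 := pow_index_eq_one (E := (P : Subgroup (G ⧸ center G)).comap (QuotientGroup.mk' (center G)))
    (commutator_of_comm (comap_comm hPc hcls)) hz hzc
  have h2 := pow_index_eq_one (E := (zpowers ya).comap (QuotientGroup.mk' (center G)))
    (commutator_of_comm (comap_zpowers_comm ya)) hz hzc
  have h3 := pow_index_eq_one (E := (zpowers yb).comap (QuotientGroup.mk' (center G)))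
    (commutator_of_comm (comap_zpowers_comm yb)) hz hzc
  rw [index_comap_quot, index_zpowers (i := q * b) hya (hn.trans (by ring))] at h2
  rw [index_comap_quot, index_zpowers (i := q * a) hyb (hn.trans (by ring))] at h3
  have hPi : (P : Subgroup (G ⧸ center G)).index = a * b := by
    have h := card_mul_index (P : Subgroup (G ⧸ center G))
    rw [hPq, ← index_eq_card, hn] at h
    exact Nat.eq_of_mul_eq_mul_left (by omega) h
  rw [index_comap_quot, hPi] at h1
  refine eq_one_of_pows h1 h2 h3 ?_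
  have hg1 : Nat.gcd (a * b) (q * b) = b := by
    rw [Nat.gcd_mul_right, Nat.Coprime.gcd_eq_one hd.coprime_qa.symm, one_mul]
  rw [hg1, Nat.Coprime.gcd_eq_one (Nat.Coprime.mul_right hd.symm.coprime_qa.symm hd.coprime_ab.symm)]

theorem split_odd {F : Type v} [Field F] [Fintype F] {a b : ℕ} (hd : OddData (Fintype.card F) a b)
    (hS : Set.range (fun g : G => cls g) =
      {1, a * b, Fintype.card F * a, 2 * (Fintype.card F * b), Fintype.card F * b}) :
    ∀ z ∈ commutator G, z ∈ center G → z = 1 := by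
  obtain ⟨e⟩ := quot_iso_odd hd hS
  obtain ⟨p, hpp, -, f, hf0, hf⟩ := Cfsg.Lib.Dickson.exists_char (F := F)
  haveI := Fact.mk hpp
  set q := Fintype.card F with hqdef
  have hq7 := hd.q7
  have ha8 := hd.a8
  have hb3 := hd.b3
  have hn := index_center hd hf hf0.ne' hS
  have O := oddHyp hd hf hf0.ne' hS
  set H := G ⧸ center G
  set π := QuotientGroup.mk' (center G)
  obtain ⟨P⟩ : Nonempty (Sylow p H) := inferInstance
  have hPc : ∀ yb ∈ (P : Subgroup H), yb ≠ 1 → IsR p yb ∧ centralizer ({yb} : Set H) = (P : Subgroup H) :=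
    fun yb h h1 => ⟨isR_of_mem P.isPGroup' h,
      O.cen_eq ⟨h, mem_centralizer_iff.2 fun v hv => O.abelian P v hv yb h⟩ h1⟩
  have hcls : ∀ y : G, IsR p y → y ∉ center G → ¬ p ∣ cls y := by
    intro y hy hyn h2
    have hdv := dvd_modZ hy (x := y) (mem_centralizer_singleton_iff.2 rfl) hyn
    have hpn := not_p_dvd hd hf hf0.ne' hS
    rcases cls_cases hd hf hf0.ne' hS y with c | c | c | c | c
    · exact hyn (cls_eq_one_iff.1 c)
    · exact hpn (c ▸ h2)
    · rw [modZ_eq hd hf hf0.ne' hS (c := b) c (by ring) (Nat.mul_ne_zero (by omega) (by omega))] at hdv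
      exact hpn (hdv.mul_left a)
    · exact hpn (((hdv.mul_left 2).trans (dvd_of_eq (two_modZ hd hf hf0.ne' hS c))).mul_right b)
    · rw [modZ_eq hd hf hf0.ne' hS (c := a) c (by ring) (Nat.mul_ne_zero (by omega) (by omega))] at hdv
      exact hpn (hdv.mul_right b)
  have hcardH : Nat.card H = q * (a * b) := by rw [← index_eq_card, hn]
  -- a lift of an involution has the full centraliser
  obtain ⟨w, hw⟩ := exists_cls hd hf hf0.ne' hS (i := q * b) (by simp)
  have hwn : π w ≠ 1 := fun h => by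
    rw [cls_eq_one_iff.2 ((QuotientGroup.eq_one_iff w).1 h)] at hw
    have := Nat.eq_one_of_mul_eq_one_right hw.symm
    omega
  have hle : ∀ x : G, centralizer ({x} : Set G) ≤ (centralizer ({π x} : Set H)).comap π := fun x c hc => by
    rw [mem_comap, mem_centralizer_singleton_iff, ← map_mul, ← map_mul, mem_centralizer_singleton_iff.1 hc]
  have hidxdvd : (centralizer ({π w} : Set H)).index ∣ q * b := by
    rw [← index_comap_of_surjective (centralizer ({π w} : Set H)) (QuotientGroup.mk'_surjective (center G)), ← hw]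
    exact index_dvd_of_le (hle w)
  have hinvw : π w * π w = 1 ∧ cls (π w) = q * b := by
    have hc1 : e (π w) ≠ 1 := fun h => hwn (e.injective (h.trans (map_one e).symm))
    have hcard := card_cen_equiv e (π w)
    rcases cen_odd hd hc1 with hc | hc | hc | ⟨h2, hc⟩
    · exfalso
      have h := cls_of_card (hcard.trans hc) hcardH
      rw [cls] at h
      rw [h] at hidxdvd
      have := Nat.eq_one_of_dvd_coprimes hd.coprime_qa.symm dvd_rfl
        (hd.coprime_ab.dvd_of_dvd_mul_right ((dvd_mul_right a b).trans hidxdvd))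
      omega
    · exfalso
      have h := cls_of_card (hcard.trans hc) (i := q * a) (hcardH.trans (by ring))
      rw [cls] at h
      rw [h] at hidxdvd
      have := Nat.eq_one_of_dvd_coprimes hd.coprime_ab dvd_rfl (Nat.dvd_of_mul_dvd_mul_left (by omega) hidxdvd)
      omega
    · exfalso
      have ha2 : 2 * (a / 2) = a := by have := hd.a4; omega
      have h := cls_of_card (hcard.trans hc) (i := 2 * (q * b)) (hcardH.trans (by
        nth_rw 1 [← ha2]; ring))
      rw [cls] at h
      rw [h] at hidxdvd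
      have := Nat.le_of_dvd (Nat.mul_pos (by omega) (by omega)) hidxdvd
      have : 0 < q * b := Nat.mul_pos (by omega) (by omega)
      omega
    · exact ⟨e.injective (by rw [map_mul, map_one]; exact h2),
        cls_of_card (hcard.trans hc) (hcardH.trans (by ring))⟩
  have hfull : ∀ x : G, π x * π x = 1 → π x ≠ 1 →
      centralizer ({x} : Set G) = (centralizer ({π x} : Set H)).comap π := by
    intro x hx hx1
    have hodd := hd.q_odd
    obtain ⟨c, hc⟩ := Cfsg.Lib.Dickson.exists_conj_involution (F := F) (by omega)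
      (x := e (π w)) (y := e (π x)) (by rw [sq, ← map_mul, hinvw.1, map_one])
      (fun h => hwn (e.injective (h.trans (map_one e).symm)))
      (by rw [sq, ← map_mul, hx, map_one]) (fun h => hx1 (e.injective (h.trans (map_one e).symm)))
    obtain ⟨g, hg⟩ := QuotientGroup.mk'_surjective (center G) (e.symm c⁻¹)
    have hxw : π x = π (g * w * g⁻¹) := e.injective (by
      rw [map_mul, map_mul, map_inv, map_mul, map_mul, map_inv, hg, e.apply_symm_apply, ← hc, inv_inv])
    obtain ⟨z, hz, rfl⟩ : ∃ z ∈ center G, g * w * g⁻¹ * z = x :=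
      ⟨(g * w * g⁻¹)⁻¹ * x, QuotientGroup.eq.1 hxw.symm, mul_inv_cancel_left _ _⟩
    have hCeq : centralizer ({g * w * g⁻¹ * z} : Set G) = centralizer ({g * w * g⁻¹} : Set G) := by
      ext v
      rw [mem_centralizer_singleton_iff, mem_centralizer_singleton_iff]
      have hz' : v * z = z * v := Subgroup.mem_center_iff.1 hz v
      generalize g * w * g⁻¹ = X
      rw [show v * (X * z) = v * X * z by group, show X * z * v = X * (z * v) by group, ← hz',
        show X * (v * z) = X * v * z by group, mul_left_inj]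
    have hi1 : cls (g * w * g⁻¹ * z) = q * b := by rw [cls, hCeq]; exact (cls_conj g w).trans hw
    have hi2 : ((centralizer ({π (g * w * g⁻¹ * z)} : Set H)).comap π).index = q * b := by
      rw [index_comap_of_surjective _ (QuotientGroup.mk'_surjective _), hxw, map_mul, map_mul, map_inv]
      exact (cls_conj (π g) (π w)).trans hinvw.2
    refine eq_of_le_of_card_ge (hle _) (le_of_eq ?_)
    have e1 := card_mul_index ((centralizer ({π (g * w * g⁻¹ * z)} : Set H)).comap π)
    have e2 := cls_mul_card (g * w * g⁻¹ * z)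
    rw [hi2] at e1
    rw [hi1] at e2
    exact Nat.eq_of_mul_eq_mul_right (Nat.mul_pos (by omega) (by omega)) (e1.trans e2.symm)
  -- the subgroups
  obtain ⟨xb, hxb, -⟩ := exists_torus_b (F := F) hd
  obtain ⟨y0, t0, hy0, -, ht0, hty0, htn0⟩ := exists_dihedral (F := F) hd
  set yb : H := e.symm y0 with hyb
  set tb : H := e.symm t0 with htb
  have ha4 := hd.a4
  have hyo : orderOf yb = a / 2 := by rw [hyb, MulEquiv.orderOf_eq, hy0]
  have htt : tb * tb = 1 := by rw [htb, ← map_mul, ht0, map_one]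
  have ht1 : tb ≠ 1 := fun h => htn0 (by
    have h' : t0 = 1 := e.symm.injective (h.trans (map_one _).symm)
    exact h' ▸ one_mem _)
  have hty : tb * yb * tb⁻¹ = yb⁻¹ := by rw [htb, hyb, ← map_inv, ← map_mul, ← map_mul, hty0, map_inv]
  have htn : tb ∉ zpowers yb := fun h => htn0 (by
    obtain ⟨j, hj⟩ := mem_zpowers_iff.1 h
    refine mem_zpowers_iff.2 ⟨j, e.symm.injective ?_⟩
    rw [map_zpow]; exact hj)
  set ib : H := yb ^ (a / 4) with hib
  have hii : ib * ib = 1 := by
    rw [hib, ← pow_add, show a / 4 + a / 4 = a / 2 by omega, ← hyo, pow_orderOf_eq_one]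
  have hi1 : ib ≠ 1 := fun h => by
    have := Nat.le_of_dvd (by omega) (orderOf_dvd_of_pow_eq_one h)
    omega
  set Cb := centralizer ({ib} : Set H) with hCb
  have hyC : zpowers yb ≤ Cb := zpowers_le.2 (mem_centralizer_singleton_iff.2 (Commute.self_pow yb _).eq)
  have htC : tb ∈ Cb := by
    rw [hCb, mem_centralizer_singleton_iff]
    refine mul_inv_eq_iff_eq_mul.1 ?_
    rw [hib, ← conj_pow, hty, inv_pow]
    exact inv_eq_of_mul_eq_one_right hii
  have hCi : Cb.index = q * b := by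
    obtain ⟨x, hx⟩ := QuotientGroup.mk'_surjective (center G) ib
    have hc1 : e ib ≠ 1 := fun h => hi1 (e.injective (h.trans (map_one e).symm))
    have hcard := card_cen_equiv e ib
    have hodd := hd.q_odd
    obtain ⟨hA, hB⟩ := Cfsg.Lib.Dickson.card_centralizer_involution (F := F) (by omega) hq7
      (x := e ib) (by rw [sq, ← map_mul, hii, map_one]) hc1
    have hc : Nat.card (centralizer ({e ib} : Set (Matrix.ProjectiveSpecialLinearGroup (Fin 2) F))) = a := by
      have hb := hd.b_odd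
      rcases hd.sum with ⟨e1, e2⟩ | ⟨e1, e2⟩
      · rw [hB (by omega)]; omega
      · rw [hA (by omega)]; omega
    exact cls_of_card (hcard.trans hc) (hcardH.trans (by ring))
  have hrel : ((zpowers yb).subgroupOf Cb).index = 2 := by
    have h1 : (zpowers yb).relIndex Cb * Cb.index = (zpowers yb).index := relIndex_mul_index hyC
    rw [hCi, index_zpowers (i := 2 * (q * b)) hyo (hn.trans (by
      nth_rw 1 [show a = 2 * (a / 2) by omega]; ring))] at h1
    exact Nat.eq_of_mul_eq_mul_right (Nat.mul_pos (by omega) (by omega)) h1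
  obtain ⟨t, htl⟩ := QuotientGroup.mk'_surjective (center G) tb
  have hCt := hfull t (by rw [htl]; exact htt) (by rw [htl]; exact ht1)
  set A := (zpowers yb).comap π with hA
  have hAc := comap_zpowers_comm yb
  have htA : ∀ x ∈ A, t * x * t⁻¹ ∈ A := by
    intro x hx
    rw [hA, mem_comap] at hx ⊢
    obtain ⟨j, hj⟩ := mem_zpowers_iff.1 hx
    rw [map_mul, map_mul, map_inv, htl, ← hj, ← conj_zpow, hty, inv_zpow]
    exact inv_mem (zpow_mem (mem_zpowers yb) j)
  let ψ : ↥A →* ↥A :=
    { toFun := fun x => ⟨(x : G)⁻¹ * (t * x * t⁻¹), A.mul_mem (A.inv_mem x.2) (htA x x.2)⟩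
      map_one' := Subtype.ext (by simp)
      map_mul' := fun x y => Subtype.ext (by
        simp only [Subgroup.coe_mul]
        calc ((x : G) * y)⁻¹ * (t * (x * y) * t⁻¹)
            = (y : G)⁻¹ * ((x : G)⁻¹ * (t * x * t⁻¹)) * (t * y * t⁻¹) := by group
          _ = (x : G)⁻¹ * (t * x * t⁻¹) * (y : G)⁻¹ * (t * y * t⁻¹) := by
              rw [hAc _ (A.inv_mem y.2) _ (A.mul_mem (A.inv_mem x.2) (htA x x.2))]
          _ = _ := by group) }
  set M := (ψ.range).map A.subtype with hM
  have hmemE : ∀ v ∈ Cb.comap π, v ∈ A ∨ ∃ x ∈ A, v = x * t := by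
    intro v hv
    by_cases hvA : v ∈ A
    · exact Or.inl hvA
    refine Or.inr ⟨v * t⁻¹, ?_, by group⟩
    have h1 := mul_mem_iff_of_index_two hrel (a := ⟨π v, mem_comap.1 hv⟩) (b := ⟨tb, htC⟩⁻¹)
    simp only [mem_subgroupOf, Subgroup.coe_mul, InvMemClass.coe_inv, inv_mem_iff] at h1
    rw [hA, mem_comap, map_mul, map_inv, htl]
    exact h1.2 (iff_of_false (fun h => hvA (mem_comap.2 h)) htn)
  have hf1 : ∀ x ∈ A, x⁻¹ * (t * x * t⁻¹) ∈ M := fun x hx =>
    mem_map.2 ⟨ψ ⟨x, hx⟩, ⟨⟨x, hx⟩, rfl⟩, rfl⟩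
  have hcommA : ∀ x ∈ A, ∀ y ∈ A, x * y = y * x := hAc
  have hcomm : ⁅Cb.comap π, Cb.comap π⁆ ≤ M := by
    rw [commutator_le]
    intro u hu v hv
    rcases hmemE u hu with hu' | ⟨x, hx, rfl⟩ <;> rcases hmemE v hv with hv' | ⟨y, hy, rfl⟩
    · rw [commutatorElement_eq_one_iff_mul_comm.2 (hcommA u hu' v hv')]; exact M.one_mem
    · have h0 : ⁅u, y * t⁆ = u⁻¹⁻¹ * (t * u⁻¹ * t⁻¹) := by
        rw [commutatorElement_def]
        calc u * (y * t) * u⁻¹ * (y * t)⁻¹ = u * y * (t * u⁻¹ * t⁻¹) * y⁻¹ := by group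
          _ = u * ((t * u⁻¹ * t⁻¹) * y) * y⁻¹ := by
              rw [mul_assoc u y, hcommA y hy _ (htA _ (A.inv_mem hu'))]
          _ = _ := by group
      exact h0 ▸ hf1 _ (A.inv_mem hu')
    · have h0 : ⁅x * t, v⁆ = (v⁻¹⁻¹ * (t * v⁻¹ * t⁻¹))⁻¹ := by
        rw [commutatorElement_def]
        calc x * t * v * (x * t)⁻¹ * v⁻¹ = x * (t * v * t⁻¹) * x⁻¹ * v⁻¹ := by group
          _ = (t * v * t⁻¹) * x * x⁻¹ * v⁻¹ := by rw [hcommA x hx _ (htA _ hv')]
          _ = _ := by group
      exact h0 ▸ M.inv_mem (hf1 _ (A.inv_mem hv'))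
    · have hd' : y * x⁻¹ ∈ A := A.mul_mem hy (A.inv_mem hx)
      have h0 : ⁅x * t, y * t⁆ = (y * x⁻¹)⁻¹ * (t * (y * x⁻¹) * t⁻¹) := by
        rw [commutatorElement_def]
        calc x * t * (y * t) * (x * t)⁻¹ * (y * t)⁻¹ = x * ((t * (y * x⁻¹) * t⁻¹) * y⁻¹) := by group
          _ = x * (y⁻¹ * (t * (y * x⁻¹) * t⁻¹)) := by rw [hcommA _ (htA _ hd') _ (A.inv_mem hy)]
          _ = _ := by group
      exact h0 ▸ hf1 _ hd'
  have hE3 : ⁅Cb.comap π, Cb.comap π⁆ ⊓ center G = ⊥ := by
    refine (eq_bot_iff_forall _).2 fun v ⟨hv, hvc⟩ => ?_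
    obtain ⟨_, ⟨⟨x, hx⟩, rfl⟩, rfl⟩ := mem_map.1 (hcomm hv)
    have hvc' : x⁻¹ * (t * x * t⁻¹) ∈ center G := hvc
    have h1 : π (t * x * t⁻¹) = π x := (QuotientGroup.eq.2 hvc').symm
    have hxt : x ∈ centralizer ({t} : Set G) := by
      rw [hCt, mem_comap, mem_centralizer_singleton_iff]
      rw [map_mul, map_mul, map_inv] at h1
      exact (mul_inv_eq_iff_eq_mul.1 h1).symm
    show x⁻¹ * (t * x * t⁻¹) = 1
    rw [← mem_centralizer_singleton_iff.1 hxt, mul_inv_cancel_right, inv_mul_cancel]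
  intro z hz hzc
  have h1 := pow_index_eq_one (E := (P : Subgroup H).comap π)
    (commutator_of_comm (comap_comm hPc hcls)) hz hzc
  have h2 := pow_index_eq_one (E := (zpowers (e.symm xb)).comap π)
    (commutator_of_comm (comap_zpowers_comm _)) hz hzc
  have h3 := pow_index_eq_one (E := Cb.comap π) hE3 hz hzc
  have hPi : (P : Subgroup H).index = a * b := by
    have h := card_mul_index (P : Subgroup H)
    rw [O.card_sylow P, hcardH] at h
    exact Nat.eq_of_mul_eq_mul_left (by omega) h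
  rw [index_comap_quot, hPi] at h1
  rw [index_comap_quot, index_zpowers (i := q * a) (by rw [MulEquiv.orderOf_eq, hxb]) (hn.trans (by ring))] at h2
  rw [index_comap_quot, hCi] at h3
  refine eq_one_of_pows h1 h3 h2 ?_
  have hg1 : Nat.gcd (a * b) (q * b) = b := by
    rw [Nat.gcd_mul_right, Nat.Coprime.gcd_eq_one hd.coprime_qa.symm, one_mul]
  rw [hg1, Nat.Coprime.gcd_eq_one (Nat.Coprime.mul_right hd.coprime_qb.symm hd.coprime_ab.symm)]

/-- The direct product. -/
theorem main {F : Type v} [Field F] [Fintype F]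
    (hq : (2 ∣ Fintype.card F ∧ 2 < Fintype.card F) ∨ (¬ 2 ∣ Fintype.card F ∧ 7 ≤ Fintype.card F))
    (h : Set.range (fun g : G => cls g) =
      Set.range (fun g : Matrix.ProjectiveSpecialLinearGroup (Fin 2) F => cls g)) :
    ∃ N A : Subgroup G, N.Normal ∧ A ≤ center G ∧ N ⊓ A = ⊥ ∧ N ⊔ A = ⊤ ∧
      Nonempty (N ≃* Matrix.ProjectiveSpecialLinearGroup (Fin 2) F) := by
  have h4 : 4 ≤ Fintype.card F := by omega
  haveI : IsSimpleGroup (Matrix.ProjectiveSpecialLinearGroup (Fin 2) F) :=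
    Matrix.ProjectiveSpecialLinearGroup.rank_two_simple (by rw [Nat.card_eq_fintype_card]; exact h4)
  rcases hq with ⟨h2, -⟩ | ⟨hodd, h7⟩
  · have hd : EvenData (Fintype.card F) (Fintype.card F - 1) (Fintype.card F + 1) :=
      ⟨h4, h2, Or.inl ⟨by omega, rfl⟩⟩
    rw [range_cls_even h2 h4] at h
    obtain ⟨e⟩ := quot_iso_even hd h
    exact split_of e (not_comm_psl h4) (split_even hd h)
  · obtain ⟨a, b, hd⟩ := exists_oddData (q := Fintype.card F) (by omega) h7
    rw [range_cls_odd hd] at h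
    obtain ⟨e⟩ := quot_iso_odd hd h
    exact split_of e (not_comm_psl h4) (split_odd hd h)

end Cfsg.Lib.ClassSizePSL
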